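import Groth.Agent.H8.GroupScheme.Fibre
import Groth.Agent.H8.PureTrans.Generic
import Groth.Agent.Lib.AlgSpFpqc.Affine
import Groth.Agent.Lib.AlgSpLimit.LimQf
import Groth.Agent.Lib.AlgSpMor.QC
import Mathlib.RingTheory.AlgebraicIndependent.TranscendenceBasis
import Mathlib.RingTheory.MvPolynomial.Basic
import Mathlib.RingTheory.TensorProduct.MvPolynomial
import Mathlib.AlgebraicGeometry.QuasiAffine

/-! # Separated group algebraic spaces over a field are schemes -/

set_option autoImplicit false
set_option linter.style.haveILetI false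
set_option backward.isDefEq.respectTransparency false
set_option backward.isDefEq.respectTransparency.types false

universe u

open CategoryTheory CategoryTheory.Limits AlgebraicGeometry Topology
open scoped MonObj TensorProduct
open AlgSp (Sp yon RepWith IsAlgSpace IsDecent Points IsQuasiSeparatedSp IsQuasiAffineMor
  IsFpqcCover IsSeparatedSp)
open Groth.Agent.Lib Groth.Agent.Lib.AlgSpace
open Groth.Agent.H8.FieldDescent.Stage Groth.Agent.H8.FieldDescent.Main
open Groth.Agent.H8.GroupScheme.Mul Groth.Agent.H8.GroupScheme.Fibre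

namespace Groth.Agent.H8.GroupScheme.Main

/-- A space over an affine scheme which is quasi-affine after a faithfully flat affine base change
is a scheme. -/
theorem isRepresentable_of_quasiAffine {S : Scheme.{u}} {b E : Over S} [IsAffine b.left]
    [IsAffine E.left] (c : E ⟶ b) (hflat : Flat c.left) (hsurj : Surjective c.left) {X : Sp S}
    (hX : IsAlgSpace X) {N : Over S} (hN : N.left.IsQuasiAffine) {p : X ⟶ (yon S).obj b}
    {f : (yon S).obj N ⟶ X} {d : N ⟶ E}
    (sq : IsPullback f ((yon S).map d) p ((yon S).map c)) : X.obj.IsRepresentable := by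
  have hcov : IsFpqcCover (fun _ : PUnit.{u + 1} => (yon S).obj E) (fun _ => (yon S).map c) := by
    refine ⟨fun _ => AlgSpMor.LocP.locP_of_repWith SourceDescent.Scheme.flat
      ((AlgSp.repWith_yon_map_iff @Flat c).2 hflat), fun Z hZ h => ?_⟩
    haveI := hZ
    obtain ⟨g, rfl⟩ := (yon S).map_surjective h
    refine ⟨1, fun _ => pullback g c, fun _ => pullback.fst g c, fun _ => ?_, fun _ => ?_, ?_,
      fun _ => ⟨PUnit.unit, (yon S).map (pullback.snd g c), by
        rw [← Functor.map_comp, ← Functor.map_comp, pullback.condition]⟩⟩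
    all_goals have sqL := (IsPullback.of_hasPullback g c).map (Over.forget S)
    · haveI : IsAffineHom c.left := isAffineHom_of_isAffine _
      haveI : IsAffineHom (pullback.fst g c).left :=
        MorphismProperty.of_isPullback sqL.flip ‹_›
      exact isAffine_of_isAffineHom (pullback.fst g c).left
    · exact MorphismProperty.of_isPullback (P := @Flat) sqL.flip hflat
    · intro z
      haveI : Surjective (pullback.fst g c).left :=
        MorphismProperty.of_isPullback (P := @Surjective) sqL.flip hsurj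
      exact ⟨0, (pullback.fst g c).left.surjective z⟩
  have hd : IsQuasiAffineMor ((yon S).map d) := AlgSpMor.QuasiAffineDescent.isQuasiAffineMor_iff.2
    ((AlgSp.repWith_yon_map_iff _ _).2 (AlgSpMor.QuasiAffineDescent.qaHom_of_isQuasiAffine d.left hN))
  have hp : IsQuasiAffineMor p :=
    (AlgSpFpqc.Classes.isLocalOnBase_congr
      (fun _ _ _ _ _ => AlgSpMor.QuasiAffineDescent.isQuasiAffineMor_iff)
      (AlgSpFpqc.Affine.isLocalOnBase_repWith _ (fun _ _ _ h => h)))
      (fun _ : PUnit.{u + 1} => (yon S).obj E) (fun _ => (yon S).map c)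
      (IsAlgSpace.yon_obj b) (fun _ => IsAlgSpace.yon_obj E) hcov p hX
      (fun _ => (yon S).obj N) (fun _ => (yon S).map d) (fun _ => f)
      (fun _ => IsAlgSpace.yon_obj N) (fun _ => sq) |>.2 fun _ => hd
  obtain ⟨W, i, g, sqW, -⟩ := hp (Z := b) ‹IsAffine b.left› (𝟙 _)
  haveI : IsIso g := sqW.isIso_fst_of_isIso
  exact AlgSpDecent.OpenScheme.isRepresentable_of_iso (asIso g)

section Algebra

variable {k L : Type u} [Field k] [Field L] [Algebra k L] {σ : Type u}

/-- Polynomial rings tensored with a field are integral domains inside the rational functions. -/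
theorem injective_lift
    (φ : L ⊗[k] FractionRing (MvPolynomial σ k) →+* FractionRing (MvPolynomial σ L))
    (hφ : ∀ (l : L) (p : MvPolynomial σ k), φ (l ⊗ₜ algebraMap _ _ p) =
      algebraMap _ _ (MvPolynomial.C l * MvPolynomial.map (algebraMap k L) p)) :
    Function.Injective φ := by
  let T := FractionRing (MvPolynomial σ k)
  let a : MvPolynomial σ k →ₐ[k] T := IsScalarTower.toAlgHom k _ T
  let A : L ⊗[k] MvPolynomial σ k →ₐ[k] L ⊗[k] T := Algebra.TensorProduct.map (AlgHom.id k L) a
  let e := (MvPolynomial.algebraTensorAlgEquiv (σ := σ) k L).toRingEquiv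
  have hA : ∀ z, φ (A z) = algebraMap _ _ (e z) := fun z => by
    induction z using TensorProduct.induction_on with
    | zero => simp only [map_zero]
    | add z z' h h' => simp only [map_add, h, h']
    | tmul l p =>
      rw [show A (l ⊗ₜ p) = l ⊗ₜ algebraMap _ T p from rfl, hφ]
      congr 1
      show _ = MvPolynomial.algebraTensorAlgEquiv k L (l ⊗ₜ p)
      rw [MvPolynomial.algebraTensorAlgEquiv_tmul, Algebra.smul_def]
      rfl
  have hden : ∀ z : L ⊗[k] T, ∃ (d : MvPolynomial σ k) (z₀ : L ⊗[k] MvPolynomial σ k),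
      d ≠ 0 ∧ z * (1 ⊗ₜ algebraMap _ T d) = A z₀ := fun z => by
    induction z using TensorProduct.induction_on with
    | zero => exact ⟨1, 0, one_ne_zero, by simp⟩
    | tmul l t =>
      obtain ⟨⟨p, d⟩, hd⟩ := IsLocalization.surj (nonZeroDivisors (MvPolynomial σ k)) t
      refine ⟨d, l ⊗ₜ p, nonZeroDivisors.ne_zero d.2, ?_⟩
      rw [Algebra.TensorProduct.tmul_mul_tmul, mul_one, hd]
      rfl
    | add z z' h h' =>
      obtain ⟨d, z₀, hd, e₁⟩ := h
      obtain ⟨d', z₀', hd', e₂⟩ := h'
      refine ⟨d * d', z₀ * (1 ⊗ₜ d') + z₀' * (1 ⊗ₜ d), mul_ne_zero hd hd', ?_⟩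
      rw [map_add, map_mul A z₀, map_mul A z₀', ← e₁, ← e₂]
      rw [show A (1 ⊗ₜ d) = 1 ⊗ₜ algebraMap _ T d from rfl,
        show A (1 ⊗ₜ d') = 1 ⊗ₜ algebraMap _ T d' from rfl,
        map_mul, ← one_mul (1 : L), ← Algebra.TensorProduct.tmul_mul_tmul, one_mul]
      ring
  refine (injective_iff_map_eq_zero φ).2 fun z hz => ?_
  obtain ⟨d, z₀, hd, hdz⟩ := hden z
  have h₀ : φ (A z₀) = 0 := by rw [← hdz, map_mul, hz, zero_mul]
  rw [hA, map_eq_zero_iff _ (IsFractionRing.injective _ _), map_eq_zero_iff _ e.injective] at h₀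
  have hu : IsUnit ((1 : L) ⊗ₜ[k] algebraMap _ T d) :=
    (IsUnit.mk0 _ ((map_ne_zero_iff _ (IsFractionRing.injective _ _)).2 hd)).map
      (Algebra.TensorProduct.includeRight : T →ₐ[k] L ⊗[k] T)
  exact hu.mul_left_eq_zero.1 (by rw [hdz, h₀, map_zero])

set_option maxHeartbeats 1000000 in
/-- The generic point of `Spec L × Spec k(σ)` has no proper generization. -/
theorem isMax_generic
    (ψ : (Over.mk (Spec.map (CommRingCat.ofHom (algebraMap k (FractionRing (MvPolynomial σ L))))) :
      Over (Spec (CommRingCat.of k))) ⟶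
        pullback (str0 (Over.mk (Spec.map (CommRingCat.ofHom (algebraMap k L)))))
          (str0 (Over.mk (Spec.map (CommRingCat.ofHom
            (algebraMap k (FractionRing (MvPolynomial σ k))))))))
    (tL : FractionRing (MvPolynomial σ k) →+* FractionRing (MvPolynomial σ L))
    (htL : ∀ p : MvPolynomial σ k, tL (algebraMap _ _ p) =
      algebraMap _ _ (MvPolynomial.map (algebraMap k L) p))
    (h₁ : (ψ ≫ pullback.fst _ _).left =
      Spec.map (CommRingCat.ofHom (algebraMap L (FractionRing (MvPolynomial σ L)))))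
    (h₂ : (ψ ≫ pullback.snd _ _).left = Spec.map (CommRingCat.ofHom tL)) :
    ∀ y, y ⤳ ψ.left (IsLocalRing.closedPoint (FractionRing (MvPolynomial σ L))) →
      y = ψ.left (IsLocalRing.closedPoint (FractionRing (MvPolynomial σ L))) := by
  let T := FractionRing (MvPolynomial σ k)
  let LT := FractionRing (MvPolynomial σ L)
  have htk : ∀ r : k, tL (algebraMap k T r) = algebraMap k LT r := fun r => by
    rw [IsScalarTower.algebraMap_apply k (MvPolynomial σ k) T, htL, MvPolynomial.algebraMap_eq,
      MvPolynomial.map_C, IsScalarTower.algebraMap_apply k L LT,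
      IsScalarTower.algebraMap_apply L (MvPolynomial σ L) LT, MvPolynomial.algebraMap_eq]
  let t₀ : T →ₐ[k] LT := { tL with commutes' := htk }
  let φ : L ⊗[k] T →ₐ[k] LT := Algebra.TensorProduct.lift (IsScalarTower.toAlgHom k L LT) t₀
    fun _ _ => Commute.all _ _
  have hφ : Function.Injective φ := injective_lift φ.toRingHom fun l p => by
    show Algebra.TensorProduct.lift _ _ _ (l ⊗ₜ algebraMap _ T p) = _
    rw [Algebra.TensorProduct.lift_tmul, map_mul]
    show algebraMap L LT l * tL _ = _
    rw [htL, IsScalarTower.algebraMap_apply L (MvPolynomial σ L) LT, MvPolynomial.algebraMap_eq]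
  have hφl : ∀ l : L, φ (l ⊗ₜ[k] (1 : T)) = algebraMap L LT l := fun l => by simp [φ]
  have hφr : ∀ t : T, φ ((1 : L) ⊗ₜ[k] t) = tL t := fun t => by
    simp [φ]
    rfl
  have sqL := (IsPullback.of_hasPullback
    (str0 (Over.mk (Spec.map (CommRingCat.ofHom (algebraMap k L)))))
    (str0 (Over.mk (Spec.map (CommRingCat.ofHom (algebraMap k T)))))).map (Over.forget _)
  let i := sqL.isoPullback ≪≫ pullbackSpecIso k L T
  have e : ψ.left = Spec.map (CommRingCat.ofHom φ.toRingHom) ≫ i.inv := by
    refine sqL.hom_ext ?_ ?_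
    · refine h₁.trans ?_
      simp only [i, Iso.trans_inv, Category.assoc]
      erw [IsPullback.isoPullback_inv_fst, pullbackSpecIso_inv_fst]
      rw [← Spec.map_comp, ← CommRingCat.ofHom_comp]
      congr 2
      ext l
      exact (hφl l).symm
    · refine h₂.trans ?_
      simp only [i, Iso.trans_inv, Category.assoc]
      erw [IsPullback.isoPullback_inv_snd, pullbackSpecIso_inv_snd]
      rw [← Spec.map_comp, ← CommRingCat.ofHom_comp]
      congr 1
      ext l
      exact (hφr l).symm
  intro y hy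
  rw [e, Scheme.Hom.comp_apply] at hy ⊢
  have h := hy.map i.hom.continuous
  have hP : ∀ P, i.hom (i.inv P) = P := fun P => by
    rw [← Scheme.Hom.comp_apply, i.inv_hom_id]; rfl
  replace h : i.hom y ⤳ Spec.map (CommRingCat.ofHom φ.toRingHom) (IsLocalRing.closedPoint LT) := by
    have h' := hP (Spec.map (CommRingCat.ofHom φ.toRingHom) (IsLocalRing.closedPoint LT))
    exact h'.subst (motive := fun P => i.hom y ⤳ P) h
  have hbot : (Spec.map (CommRingCat.ofHom φ.toRingHom)
      (IsLocalRing.closedPoint LT)).asIdeal = ⊥ := by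
    show Ideal.comap φ.toRingHom (IsLocalRing.maximalIdeal _) = ⊥
    rw [IsLocalRing.maximalIdeal_eq_bot, ← RingHom.ker_eq_comap_bot]
    exact (RingHom.injective_iff_ker_eq_bot _).1 hφ
  have hle := (PrimeSpectrum.le_iff_specializes (i.hom y) _).2 h
  have heq : i.hom y = Spec.map (CommRingCat.ofHom φ.toRingHom) (IsLocalRing.closedPoint LT) :=
    PrimeSpectrum.ext ((le_bot_iff.1 (hbot ▸ hle)).trans hbot.symm)
  refine Eq.trans ?_ (congrArg i.inv heq)
  rw [← Scheme.Hom.comp_apply, i.hom_inv_id]
  rfl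

/-- The embedding of rational functions into rational functions over an extension. -/
theorem exists_tL {k L : Type u} [Field k] [Field L] [Algebra k L] (σ : Type u) :
    ∃ tL : FractionRing (MvPolynomial σ k) →+* FractionRing (MvPolynomial σ L),
      (∀ p : MvPolynomial σ k, tL (algebraMap _ _ p) =
        algebraMap _ _ (MvPolynomial.map (algebraMap k L) p)) ∧
      ∀ r : k, tL (algebraMap k _ r) = algebraMap k _ r := by
  let T := FractionRing (MvPolynomial σ k)
  let LT := FractionRing (MvPolynomial σ L)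
  have hinj : Function.Injective ((algebraMap (MvPolynomial σ L) LT).comp
      (MvPolynomial.map (σ := σ) (algebraMap k L))) :=
    (IsFractionRing.injective (MvPolynomial σ L) LT).comp
      (MvPolynomial.map_injective _ (algebraMap k L).injective)
  have h : ∀ p : MvPolynomial σ k, IsFractionRing.lift (K := T) hinj (algebraMap _ _ p) =
      algebraMap _ LT (MvPolynomial.map (algebraMap k L) p) := IsFractionRing.lift_algebraMap hinj
  refine ⟨IsFractionRing.lift (K := T) hinj, h, fun r => ?_⟩
  rw [IsScalarTower.algebraMap_apply k (MvPolynomial σ k) T, h, MvPolynomial.algebraMap_eq,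
    MvPolynomial.map_C, IsScalarTower.algebraMap_apply k L LT,
    IsScalarTower.algebraMap_apply L (MvPolynomial σ L) LT, MvPolynomial.algebraMap_eq]

/-- Field extensions give faithfully flat maps of spectra. -/
theorem flat_surjective_specMap {A C : Type u} [Field A] [Field C] (f : A →+* C) :
    Flat (Spec.map (CommRingCat.ofHom f)) ∧ Surjective (Spec.map (CommRingCat.ofHom f)) := by
  letI : Algebra A C := f.toAlgebra
  exact ⟨(HasRingHomProperty.Spec_iff (P := @Flat)).2
      (RingHom.flat_algebraMap_iff.2 inferInstance : (algebraMap A C).Flat),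
    ⟨fun _ => ⟨IsLocalRing.closedPoint C, Subsingleton.elim (α := PrimeSpectrum A) _ _⟩⟩⟩

theorem exists_transcendence (k Q : Type u) [Field k] [Field Q] [Algebra k Q] :
    ∃ (σ : Type u) (i : FractionRing (MvPolynomial σ k) →+* Q),
      i.comp (algebraMap k _) = algebraMap k Q ∧ i.IsIntegral := by
  obtain ⟨s, hs⟩ := exists_isTranscendenceBasis k Q
  let a : MvPolynomial s k →ₐ[k] Q := MvPolynomial.aeval (Subtype.val : s → Q)
  have ha : Function.Injective a := hs.1
  let i : FractionRing (MvPolynomial s k) →+* Q := IsFractionRing.lift (g := a.toRingHom) ha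
  have hi : ∀ p, i (algebraMap _ _ p) = a p := IsFractionRing.lift_algebraMap ha
  refine ⟨s, i, RingHom.ext fun r => ?_, fun z => ?_⟩
  · show i _ = _
    rw [IsScalarTower.algebraMap_apply k (MvPolynomial s k), hi, AlgHom.commutes]
  haveI := hs.isAlgebraic
  have hz := Algebra.IsAlgebraic.isAlgebraic
    (R := Algebra.adjoin k (Set.range (Subtype.val : s → Q))) z
  letI : Algebra (MvPolynomial s k) Q := a.toRingHom.toAlgebra
  letI : Algebra (FractionRing (MvPolynomial s k)) Q := i.toAlgebra
  haveI : IsScalarTower (MvPolynomial s k) (FractionRing (MvPolynomial s k)) Q :=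
    IsScalarTower.of_algebraMap_eq fun p => (hi p).symm
  show IsIntegral (FractionRing (MvPolynomial s k)) z
  rw [← isAlgebraic_iff_isIntegral]
  have h : IsAlgebraic (MvPolynomial s k) (RingHom.id Q z) :=
    IsAlgebraic.ringHom_of_comp_eq hs.1.aevalEquiv.symm.toRingHom (RingHom.id Q) hz
      hs.1.aevalEquiv.symm.injective (RingHom.ext fun q => by
        show a (hs.1.aevalEquiv.symm q) = (q : Q)
        rw [← AlgebraicIndependent.algebraMap_aevalEquiv hs.1]
        exact congrArg Subtype.val (hs.1.aevalEquiv.apply_symm_apply q))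
  exact h.extendScalars (IsFractionRing.injective (MvPolynomial s k) (FractionRing (MvPolynomial s k)))

theorem subsingleton_spec (F : Type u) [Field F] : Subsingleton ↥(Spec (CommRingCat.of F)) :=
  inferInstanceAs (Subsingleton (PrimeSpectrum F))

/-- Points over a point without proper generization have none either, for integral extensions. -/
theorem isMax_of_integral {k : Type u} [Field k]
    {EQ EL ET ELT : Over (Spec (CommRingCat.of k))} [IsAffine EL.left] [IsAffine ET.left]
    [Subsingleton ↥ELT.left] (c : EQ ⟶ ET) (hc : IsIntegralHom c.left) (qL : ELT ⟶ EL)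
    (qT : ELT ⟶ ET) (pT : ELT.left)
    (hψ : ∀ y, y ⤳ (pullback.lift qL qT (Over.mkIdTerminal.hom_ext _ _) :
        ELT ⟶ pullback (str0 EL) (str0 ET)).left pT →
      y = (pullback.lift qL qT (Over.mkIdTerminal.hom_ext _ _) :
        ELT ⟶ pullback (str0 EL) (str0 ET)).left pT)
    (w₂ : (pullback qT c).left) :
    ∀ w', w' ⤳ (pullback.lift (pullback.snd qT c) (pullback.fst qT c ≫ qL)
        (Over.mkIdTerminal.hom_ext _ _) : pullback qT c ⟶ pullback (str0 EQ) (str0 EL)).left w₂ →
      w' = (pullback.lift (pullback.snd qT c) (pullback.fst qT c ≫ qL)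
        (Over.mkIdTerminal.hom_ext _ _) : pullback qT c ⟶ pullback (str0 EQ) (str0 EL)).left w₂ := by
  let om : pullback qT c ⟶ pullback (str0 EQ) (str0 EL) :=
    pullback.lift (pullback.snd qT c) (pullback.fst qT c ≫ qL) (Over.mkIdTerminal.hom_ext _ _)
  let gam : pullback (str0 EQ) (str0 EL) ⟶ pullback (str0 EL) (str0 ET) :=
    pullback.lift (pullback.snd _ _) (pullback.fst _ _ ≫ c) (Over.mkIdTerminal.hom_ext _ _)
  let ψ : ELT ⟶ pullback (str0 EL) (str0 ET) :=
    pullback.lift qL qT (Over.mkIdTerminal.hom_ext _ _)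
  have e : om ≫ gam = pullback.fst qT c ≫ ψ := by
    apply pullback.hom_ext <;> simp [om, gam, ψ, ← pullback.condition]
  have t := IsPullback.of_hasPullback (str0 EL) (str0 ET)
  have s : IsPullback (gam ≫ pullback.fst (str0 EL) (str0 ET)) (pullback.fst (str0 EQ) (str0 EL))
      (str0 EL) (c ≫ str0 ET) := by
    rw [pullback.lift_fst, show c ≫ str0 ET = str0 EQ from Over.mkIdTerminal.hom_ext _ _]
    exact (IsPullback.of_hasPullback (str0 EQ) (str0 EL)).flip
  have sqγ := (s.of_right (pullback.lift_snd _ _ _) t).map (Over.forget _)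
  haveI : IsIntegralHom gam.left :=
    MorphismProperty.of_isPullback (P := @IsIntegralHom) sqγ.flip hc
  haveI : IsAffine (pullback (str0 EL) (str0 ET)).left := by
    have sqL := (IsPullback.of_hasPullback (str0 EL) (str0 ET)).map (Over.forget _)
    haveI : IsAffine (Over.mk (𝟙 (Spec (CommRingCat.of k)))).left :=
      inferInstanceAs (IsAffine (Spec (CommRingCat.of k)))
    haveI : IsAffineHom (str0 ET).left := isAffineHom_of_isAffine _
    haveI : IsAffineHom (pullback.fst (str0 EL) (str0 ET)).left :=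
      MorphismProperty.of_isPullback sqL.flip ‹_›
    exact isAffine_of_isAffineHom (pullback.fst (str0 EL) (str0 ET)).left
  intro w' hw'
  have h1 : gam.left (om.left w₂) = ψ.left pT := by
    rw [← Scheme.Hom.comp_apply, ← Over.comp_left, e, Over.comp_left, Scheme.Hom.comp_apply]
    exact congrArg ψ.left (Subsingleton.elim _ _)
  have h2 := hw'.map gam.left.continuous
  rw [h1] at h2
  exact AlgSpLimit.eq_of_specializes_of_isIntegralHom gam.left hw' ((hψ _ h2).trans h1.symm)

end Algebra

section Main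

variable {k : Type u} [Field k]

set_option maxHeartbeats 2000000 in
/-- A separated group algebraic space over a field is a scheme. -/
theorem isRepresentable
    (G : Over ((yon (Spec (CommRingCat.of k))).obj (Over.mk (𝟙 (Spec (CommRingCat.of k)))))) [GrpObj G]
    (hG : IsAlgSpace G.left) (hsep : IsSeparatedSp G.left) : G.left.obj.IsRepresentable := by
  have hqs : IsQuasiSeparatedSp G.left :=
    AlgSpace.repWith_mono hsep fun _ _ g (_ : IsClosedImmersion g) => (inferInstance : QuasiCompact g)
  have hdec := AlgSpDecent.QS.isDecent_of_isQuasiSeparatedSp hG hqs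
  let e₀ := Points.ofPt (1 : (yon (Spec (CommRingCat.of k))).obj (Over.mk (𝟙 _)) ⟶ G.left)
    (IsLocalRing.closedPoint k)
  obtain ⟨η', hη'e, hη'max, hη'0⟩ := exists_isMax hG hdec e₀
  obtain ⟨Q, iQ, sQ, q, rfl, hind⟩ := exists_embedded_pt hG hqs η' hη'0
  obtain ⟨φQ, rfl⟩ := Spec.map_surjective sQ
  letI : Algebra k Q := φQ.hom.toAlgebra
  obtain ⟨σ, iT, hiT, hiTint⟩ := exists_transcendence k Q
  let T := FractionRing (MvPolynomial σ k)
  let EQ : Over (Spec (CommRingCat.of k)) := Over.mk (Spec.map φQ)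
  let ET : Over (Spec (CommRingCat.of k)) := Over.mk (Spec.map (CommRingCat.ofHom (algebraMap k T)))
  let cQT : EQ ⟶ ET := Over.homMk (Spec.map (CommRingCat.ofHom iT)) (by
    show Spec.map _ ≫ Spec.map _ = Spec.map _
    rw [← Spec.map_comp, ← CommRingCat.ofHom_comp, hiT]
    rfl)
  haveI hcint : IsIntegralHom cQT.left := IsIntegralHom.SpecMap_iff.2 hiTint
  suffices key : ∀ y : Points G.left, ∃ (V : Sp (Spec (CommRingCat.of k))) (j : V ⟶ G.left),
      RepWith @IsOpenImmersion j ∧ V.obj.IsRepresentable ∧ y ∈ Set.range (Points.map j) by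
    obtain ⟨U, a, -, has⟩ := hG.atlas
    choose V j hj hV hmem using fun u : U.left => key (Points.ofPt a u)
    exact isRepresentable_of_cover hG hj hV fun y => by
      obtain ⟨u, rfl⟩ := AlgSpace.surjective_ofPt has y
      exact ⟨u, hmem u⟩
  intro y
  obtain ⟨L, iL, sL, qx, rfl⟩ := exists_fieldPt y
  obtain ⟨φL, rfl⟩ := Spec.map_surjective sL
  letI : Algebra k L := φL.hom.toAlgebra
  let LT := FractionRing (MvPolynomial σ L)
  obtain ⟨tL, htL, htLk⟩ := exists_tL (k := k) (L := L) σ
  let EL : Over (Spec (CommRingCat.of k)) := Over.mk (Spec.map φL)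
  let ELT : Over (Spec (CommRingCat.of k)) := Over.mk (Spec.map (CommRingCat.ofHom (algebraMap k LT)))
  let qL : ELT ⟶ EL := Over.homMk (Spec.map (CommRingCat.ofHom (algebraMap L LT))) (by
    show Spec.map _ ≫ Spec.map _ = Spec.map _
    rw [← Spec.map_comp]
    congr 1)
  let qT : ELT ⟶ ET := Over.homMk (Spec.map (CommRingCat.ofHom tL)) (by
    show Spec.map _ ≫ Spec.map _ = Spec.map _
    rw [← Spec.map_comp]
    congr 1
    ext r
    exact htLk r)
  let pT : ELT.left := IsLocalRing.closedPoint LT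
  let r₀ : (yon (Spec (CommRingCat.of k))).obj ELT ⟶
      G.left ⨯ (yon (Spec (CommRingCat.of k))).obj ET :=
    prod.lift ((yon _).map qL ≫ qx) ((yon _).map qT)
  let xT := Points.ofPt r₀ pT
  -- the affine open
  obtain ⟨ξ, hξx, hξmax, hξ0⟩ := exists_isMax hG hdec (Points.ofPt qx (IsLocalRing.closedPoint L))
  obtain ⟨Wo, l, hWo, hl, hξW⟩ := AlgSpDecent.QSCharts.exists_open_scheme_of_qs hG hqs ξ hξ0
  let mu := prod.map (𝟙 G.left) ((yon (Spec (CommRingCat.of k))).map cQT)
  let tr : G.left ⨯ (yon (Spec (CommRingCat.of k))).obj EQ ⟶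
      G.left ⨯ (yon (Spec (CommRingCat.of k))).obj EQ :=
    prod.lift ((prod.snd ≫ q) * prod.fst) prod.snd
  let tr' : G.left ⨯ (yon (Spec (CommRingCat.of k))).obj EQ ⟶
      G.left ⨯ (yon (Spec (CommRingCat.of k))).obj EQ :=
    prod.lift ((prod.snd ≫ q)⁻¹ * prod.fst) prod.snd
  have ht1 : tr ≫ tr' = 𝟙 _ := by
    refine prod.hom_ext ?_ (by simp [tr, tr'])
    simp only [tr, tr', Category.assoc, prod.lift_fst, comp_mul, comp_inv, Category.id_comp]
    rw [prod.lift_fst, prod.lift_snd_assoc, inv_mul_cancel_left]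
  have ht2 : tr' ≫ tr = 𝟙 _ := by
    refine prod.hom_ext ?_ (by simp [tr, tr'])
    simp only [tr, tr', Category.assoc, prod.lift_fst, comp_mul, comp_inv, Category.id_comp]
    rw [prod.lift_fst, prod.lift_snd_assoc, mul_inv_cancel_left]
  haveI : IsIso tr' := ⟨tr, ht2, ht1⟩
  let lW := fibreMap l EQ
  have hlW : RepWith @IsOpenImmersion lW :=
    AlgSpace.repWith_baseChange (isPullback_fibreMap l EQ).flip hl
  let uU := lW ≫ tr'
  have huU : RepWith @IsOpenImmersion uU :=
    AlgSpace.repWith_comp hlW (AlgSpace.repWith_of_isIso _ tr')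
  have hsub : Points.map mu ⁻¹' {xT} ⊆ Set.range (Points.map uU) := by
    intro z hz
    have sP₂ := (IsPullback.of_hasPullback qT cQT).map (yon (Spec (CommRingCat.of k)))
    let i₂ : (yon (Spec (CommRingCat.of k))).obj (pullback qT cQT) ⟶
        G.left ⨯ (yon (Spec (CommRingCat.of k))).obj EQ :=
      prod.lift ((yon _).map (pullback.fst qT cQT) ≫ (yon _).map qL ≫ qx)
        ((yon _).map (pullback.snd qT cQT))
    have sq₂ : IsPullback i₂ ((yon _).map (pullback.fst qT cQT)) mu r₀ := by
      refine AlgSpace.isPullback_of_yon (prod.hom_ext ?_ ?_)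
        (fun W p r h1 h2 => sP₂.hom_ext h2 ?_) fun W p r w => ?_
      · simp [i₂, mu, r₀]
      · simp only [i₂, mu, r₀, Category.assoc, prod.map_snd, prod.lift_snd_assoc, prod.lift_snd]
        exact sP₂.w.symm
      · simpa [i₂] using congrArg (· ≫ prod.snd) h1
      · have w' : r ≫ (yon (Spec (CommRingCat.of k))).map qT =
            (p ≫ prod.snd) ≫ (yon (Spec (CommRingCat.of k))).map cQT := by
          simpa [mu, r₀] using (congrArg (· ≫ prod.snd) w).symm
        refine ⟨sP₂.lift r (p ≫ prod.snd) w', prod.hom_ext ?_ ?_, sP₂.lift_fst _ _ _⟩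
        · simp only [i₂, Category.assoc, prod.lift_fst]
          rw [← Category.assoc, sP₂.lift_fst]
          simpa [mu, r₀] using (congrArg (· ≫ prod.fst) w).symm
        · simp only [i₂, Category.assoc, prod.lift_snd]
          exact sP₂.lift_snd _ _ _
    obtain ⟨w₂, rfl, -⟩ := AlgSpace.exists_of_isPullback sq₂ z (Points.ofScheme ELT pT)
      (by rw [← Points.ofPt_eq_map_ofScheme]; exact hz)
    obtain ⟨w₂, rfl⟩ : ∃ v, Points.ofScheme _ v = w₂ := ⟨_, Points.ofScheme_toScheme _ w₂⟩
    let ω : pullback qT cQT ⟶ pullback (str0 EQ) (str0 EL) :=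
      pullback.lift (pullback.snd qT cQT) (pullback.fst qT cQT ≫ qL) (Over.mkIdTerminal.hom_ext _ _)
    let w := ω.left w₂
    haveI : IsAffine ET.left := inferInstanceAs (IsAffine (Spec (CommRingCat.of T)))
    haveI : IsAffine EL.left := inferInstanceAs (IsAffine (Spec (CommRingCat.of L)))
    haveI : Subsingleton ↥ELT.left := subsingleton_spec LT
    have hwmin : ∀ w', w' ⤳ w → w' = w := isMax_of_integral cQT hcint qL qT pT
      (isMax_generic (pullback.lift qL qT (Over.mkIdTerminal.hom_ext _ _)) tL htL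
        (congrArg Over.Hom.left (pullback.lift_fst _ _ _))
        (congrArg Over.Hom.left (pullback.lift_snd _ _ _))) w₂
    obtain ⟨hM1, hM2⟩ := isMax_translate hG hdec q hη'max hη'e hind qx w hwmin
    have hM : i₂ ≫ tr ≫ prod.fst = (yon _).map ω ≫
        (((yon _).map (pullback.fst (str0 EQ) (str0 EL)) ≫ q) *
          ((yon _).map (pullback.snd (str0 EQ) (str0 EL)) ≫ qx)) := by
      simp only [tr, i₂, prod.lift_fst, comp_mul]
      rw [prod.lift_fst, prod.lift_snd_assoc]
      simp only [ω, ← Functor.map_comp_assoc, pullback.lift_fst, pullback.lift_snd]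
    have hπ : Points.map prod.fst (Points.map tr (Points.map i₂ (Points.ofScheme _ w₂))) = ξ := by
      rw [← Points.map_comp, ← Points.map_comp, ← Points.ofPt_eq_map_ofScheme, hM,
        AlgSpace.ofPt_yon_map_comp]
      exact isMax_unique hG hdec hM2 hξx hM1 hξmax
    obtain ⟨v, hv⟩ := hξW
    obtain ⟨v', hv', -⟩ := AlgSpace.exists_of_isPullback (isPullback_fibreMap l EQ) _ v
      (hπ.trans hv.symm)
    exact ⟨v', by rw [Points.map_comp, hv', ← Points.map_comp tr, ht1, Points.map_id]⟩
  -- the scheme neighbourhood of the generic point over the point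
  have hYT : IsAlgSpace (G.left ⨯ (yon (Spec (CommRingCat.of k))).obj ET) :=
    AlgSpace.isAlgSpace_prod hG (IsAlgSpace.yon_obj _)
  have hμi : RepWith @IsIntegralHom mu :=
    AlgSpace.repWith_baseChange (isPullback_map cQT).flip ((AlgSp.repWith_yon_map_iff _ cQT).2 hcint)
  have hV₀ : IsOpen (Points.map mu '' (Set.range (Points.map uU))ᶜ)ᶜ :=
    (AlgSpNormCover.isClosedMap_map hYT hμi _
      (AlgSpace.isOpenEmbedding_map huU).isOpen_range.isClosed_compl).isOpen_compl
  have hxV₀ : xT ∈ (Points.map mu '' (Set.range (Points.map uU))ᶜ)ᶜ :=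
    fun ⟨z, hz, e⟩ => hz (hsub e)
  obtain ⟨X₀, i₀, hX₀, hX₀c, hX₀s, hi₀, hx₀⟩ :=
    exists_qc_nhd hG hqs (Points.ofPt qx (IsLocalRing.closedPoint L))
  let rT := CommRingCat.ofHom (algebraMap k T)
  obtain ⟨hbc, hbcc, hbcs⟩ := qcqs_bc hX₀ hX₀c hX₀s rT
  let j₀ : bc X₀ rT ⟶ bc G.left rT := prod.map i₀ (𝟙 _)
  have hj₀ : RepWith @IsOpenImmersion j₀ := repWith_bc_map hi₀ _
  obtain ⟨qx₀, hqx₀⟩ := (AlgSpace.exists_lift_iff_range_subset hi₀ qx).2 (by
    rintro _ ⟨z, rfl⟩
    rw [← Points.ofScheme_toScheme _ z, ← Points.ofPt_eq_map_ofScheme,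
      Subsingleton.elim (α := PrimeSpectrum L) (Points.toScheme _ z) (IsLocalRing.closedPoint L)]
    exact hx₀)
  let r₀' : (yon (Spec (CommRingCat.of k))).obj ELT ⟶ bc X₀ rT :=
    prod.lift ((yon _).map qL ≫ qx₀) ((yon _).map qT)
  have hr₀' : r₀' ≫ j₀ = r₀ := by
    simp only [r₀', r₀, j₀, prod.lift_map, Category.assoc, hqx₀]
    rw [Category.comp_id]
  obtain ⟨V₁, j₁, hV₁, hj₁, hrng₁⟩ := AlgSpace.exists_open_subspace hbc
    (hV₀.preimage (Points.continuous_map j₀))
  haveI : Mono j₁ := AlgSpace.mono_of_repWith (P := @IsOpenImmersion)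
    (fun _ _ g (_ : IsOpenImmersion g) ↦ (inferInstance : Mono g)) hj₁
  have hqs₁ : IsQuasiSeparatedSp V₁ :=
    AlgSpMor.Perm.repWith_diag_of_mor @QuasiCompact j₁ (AlgSpace.repWith_of_isIso _ _) hbcs
  obtain ⟨x₁, hx₁⟩ := hrng₁.ge (show Points.ofPt r₀' pT ∈ Points.map j₀ ⁻¹' _ by
    rw [Set.mem_preimage, Points.map_ofPt, hr₀']
    exact hxV₀)
  obtain ⟨V, j₂, hV, hVc, -, hj₂, hxV⟩ := exists_qc_nhd hV₁ hqs₁ x₁
  let j := j₂ ≫ j₁ ≫ j₀
  have hj : RepWith @IsOpenImmersion j :=
    AlgSpace.repWith_comp hj₂ (AlgSpace.repWith_comp hj₁ hj₀)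
  have hxj : xT ∈ Set.range (Points.map j) := by
    obtain ⟨x₂, rfl⟩ := hxV
    refine ⟨x₂, ?_⟩
    rw [Points.map_comp, Points.map_comp, hx₁, Points.map_ofPt, hr₀']
  have hVrep : V.obj.IsRepresentable := by
    have sqV : IsPullback (pullback.fst mu j) (pullback.snd mu j) mu j := IsPullback.of_hasPullback _ _
    obtain ⟨lU, hlU⟩ := (AlgSpace.exists_lift_iff_range_subset huU (pullback.fst mu j)).2 (by
      rintro _ ⟨z, rfl⟩
      by_contra hn
      refine (hrng₁.le ⟨Points.map j₂ (Points.map (pullback.snd mu j) z), rfl⟩ : _ ∈ Points.map j₀ ⁻¹' _)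
        ⟨_, hn, ?_⟩
      rw [← Points.map_comp, ← Points.map_comp, ← Points.map_comp, ← Points.map_comp, sqV.w])
    haveI : Mono uU := AlgSpace.mono_of_repWith (P := @IsOpenImmersion)
      (fun _ _ g (_ : IsOpenImmersion g) ↦ (inferInstance : Mono g)) huU
    have hlo : RepWith @IsOpenImmersion lU := by
      refine AlgSpace.repWith_baseChange (IsPullback.of_horiz_isIso_mono (f := pullback.fst mu j)
        (fst := 𝟙 _) (g := uU) (snd := lU) ⟨?_⟩) ?_
      · simp [hlU]
      · exact AlgSpace.repWith_baseChange sqV.flip hj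
    obtain ⟨N, wN, e, he⟩ := AlgSpace.exists_iso_yon_of_representable hlo.rep
      (ξ := 𝟙 ((yon (Spec (CommRingCat.of k))).obj (pullback (str0 Wo) (str0 EQ))))
      (snd := lU) (fst := 𝟙 _) (IsPullback.of_horiz_isIso ⟨by simp⟩)
    haveI : IsOpenImmersion wN.left := (AlgSp.repWith_yon_map_iff @IsOpenImmersion wN).1
      (he ▸ (AlgSpace.repWith_iso_comp_iff _ e.hom lU).2 hlo)
    have sqN : IsPullback (e.hom ≫ pullback.snd mu j) (e.hom ≫ pullback.fst mu j ≫ prod.snd)
        (j ≫ prod.snd) ((yon (Spec (CommRingCat.of k))).map cQT) :=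
      (sqV.flip.paste_vert (isPullback_map cQT)).of_iso e.symm (Iso.refl _) (Iso.refl _)
        (Iso.refl _) (by simp) (by simp) (by simp; rfl) (by simp)
    obtain ⟨d, hd⟩ := (yon (Spec (CommRingCat.of k))).map_surjective
      (e.hom ≫ pullback.fst mu j ≫ prod.snd)
    rw [← hd] at sqN
    haveI : IsAffine ET.left := inferInstanceAs (IsAffine (Spec (CommRingCat.of T)))
    haveI : IsAffine EQ.left := inferInstanceAs (IsAffine (Spec (CommRingCat.of Q)))
    refine isRepresentable_of_quasiAffine cQT (flat_surjective_specMap iT).1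
      (flat_surjective_specMap iT).2
      hV ?_ sqN
    haveI : CompactSpace (Points V) := (AlgSpMor.QC.isQuasiCompactSp_iff hV).1 hVc
    have hqcm : RepWith @QuasiCompact (e.hom ≫ pullback.snd mu j) :=
      (AlgSpace.repWith_iso_comp_iff _ e.hom _).2 (AlgSpace.repWith_mono
        (AlgSpace.repWith_baseChange sqV hμi) fun _ _ g (_ : IsIntegralHom g) =>
          (inferInstance : QuasiCompact g))
    haveI : CompactSpace (Points ((yon (Spec (CommRingCat.of k))).obj N)) :=
      AlgSpMor.QC.compactSpace_of_repWith hqcm hV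
    haveI : CompactSpace ↥N.left := (Points.schemeHomeo N).symm.compactSpace
    haveI : IsAffine (pullback (str0 Wo) (str0 EQ)).left := by
      have sqL := (IsPullback.of_hasPullback (str0 Wo) (str0 EQ)).map (Over.forget _)
      haveI : IsAffine Wo.left := hWo
      haveI : IsAffine (Over.mk (𝟙 (Spec (CommRingCat.of k)))).left :=
        inferInstanceAs (IsAffine (Spec (CommRingCat.of k)))
      haveI : IsAffineHom (str0 EQ).left := isAffineHom_of_isAffine _
      haveI : IsAffineHom (pullback.fst (str0 Wo) (str0 EQ)).left :=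
        MorphismProperty.of_isPullback sqL.flip ‹_›
      exact isAffine_of_isAffineHom (pullback.fst (str0 Wo) (str0 EQ)).left
    exact Scheme.IsQuasiAffine.of_isImmersion wN.left
  exact PureTrans.Generic.exists_scheme_nhd hG hqs qx tL htL qL rfl qT rfl hVrep j hj hxj

end Main

end Groth.Agent.H8.GroupScheme.Main
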