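import Groth.Agent.H8.AlgClosedSchLocus.Basic
import Groth.Prelude.Def_AlgSpGpd
import Groth.Agent.Lib.AlgSpDecent.DenseOpen
import Groth.Agent.Lib.AlgSpDecent.QS
import Mathlib.CategoryTheory.Monoidal.Cartesian.Grp

/-! # Separated group algebraic spaces over a field become schemes over an algebraic closure -/

set_option autoImplicit false
set_option linter.style.haveILetI false
set_option backward.isDefEq.respectTransparency false
set_option backward.isDefEq.respectTransparency.types false

universe u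

open CategoryTheory CategoryTheory.Limits AlgebraicGeometry Topology
open scoped MonObj
open AlgSp (Sp yon RepWith IsAlgSpace Points IsQuasiSeparatedSp IsSeparatedSp)
open Groth.Agent.Lib Groth.Agent.Lib.AlgSpace
open Groth.Agent.H8.FieldDescent.Stage Groth.Agent.H8.FieldDescent.Main

namespace Groth.Agent.H8.GroupScheme.Basic

section Translate

variable {S : Scheme.{u}} {b : Over S} (hb : IsTerminal ((yon S).obj b))
  (G : Over ((yon S).obj b)) [GrpObj G] (E : Over S)

include hb

/-- A translation of a base change of a group object carrying one section to another. -/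
theorem exists_translation (g h : (yon S).obj E ⟶ G.left) :
    ∃ τ : G.left ⨯ (yon S).obj E ≅ G.left ⨯ (yon S).obj E,
      τ.hom ≫ prod.snd = prod.snd ∧ prod.lift g (𝟙 _) ≫ τ.hom = prod.lift h (𝟙 _) := by
  let W : Over ((yon S).obj b) := Over.mk (hb.from (G.left ⨯ (yon S).obj E))
  let V : Over ((yon S).obj b) := Over.mk (hb.from ((yon S).obj E))
  let π₁ : W ⟶ G := Over.homMk prod.fst (hb.hom_ext _ _)
  let π₂ : W ⟶ V := Over.homMk prod.snd (hb.hom_ext _ _)
  let g₁ : V ⟶ G := Over.homMk g (hb.hom_ext _ _)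
  let h₁ : V ⟶ G := Over.homMk h (hb.hom_ext _ _)
  let tr : (V ⟶ G) → (W ⟶ W) := fun d => Over.homMk
    (prod.lift (π₁ * π₂ ≫ d).left prod.snd) (hb.hom_ext _ _)
  have htr₁ : ∀ d, tr d ≫ π₁ = π₁ * π₂ ≫ d := fun d => Over.OverMorphism.ext (prod.lift_fst _ _)
  have htr₂ : ∀ d, tr d ≫ π₂ = π₂ := fun d => Over.OverMorphism.ext (prod.lift_snd _ _)
  have hext : ∀ {Z : Over ((yon S).obj b)} (x y : Z ⟶ W), x ≫ π₁ = y ≫ π₁ → x ≫ π₂ = y ≫ π₂ →
      x = y := fun x y e₁ e₂ => Over.OverMorphism.ext
    (prod.hom_ext (congrArg (fun m => m.left) e₁) (congrArg (fun m => m.left) e₂))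
  have hcomp : ∀ d d', tr d ≫ tr d' = tr (d * d') := fun d d' => by
    refine hext _ _ ?_ ?_
    · rw [Category.assoc, htr₁, htr₁, MonObj.comp_mul, htr₁, ← Category.assoc, htr₂, mul_assoc,
        ← MonObj.comp_mul]
    · rw [Category.assoc, htr₂, htr₂, htr₂]
  have hone : tr 1 = 𝟙 W := by
    refine hext _ _ ?_ ?_
    · rw [htr₁, MonObj.comp_one, mul_one, Category.id_comp]
    · rw [htr₂, Category.id_comp]
  let τ : W ≅ W := ⟨tr (g₁⁻¹ * h₁), tr (h₁⁻¹ * g₁),
    by rw [hcomp, mul_assoc, mul_inv_cancel_left, inv_mul_cancel, hone],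
    by rw [hcomp, mul_assoc, mul_inv_cancel_left, inv_mul_cancel, hone]⟩
  let ĝ : V ⟶ W := Over.homMk (prod.lift g (𝟙 _)) (hb.hom_ext _ _)
  have hĝ₁ : ĝ ≫ π₁ = g₁ := Over.OverMorphism.ext (prod.lift_fst _ _)
  have hĝ₂ : ĝ ≫ π₂ = 𝟙 V := Over.OverMorphism.ext (prod.lift_snd _ _)
  refine ⟨(Over.forget _).mapIso τ, prod.lift_snd _ _, prod.hom_ext ?_ ?_⟩
  · have e : (ĝ ≫ τ.hom) ≫ π₁ = h₁ := by
      rw [Category.assoc, htr₁, MonObj.comp_mul, ← Category.assoc, hĝ₁, hĝ₂, Category.id_comp,
        mul_inv_cancel_left]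
    rw [prod.lift_fst]
    exact congrArg (fun m => m.left) e
  · rw [Category.assoc, prod.lift_snd]
    show prod.lift g (𝟙 _) ≫ prod.lift _ prod.snd ≫ prod.snd = _
    rw [prod.lift_snd, prod.lift_snd]

end Translate

variable {k : Type u} [Field k]

/-- A scheme stays a scheme after base change. -/
theorem isRepresentable_bc {R : CommRingCat.{u}} {X : Sp (Spec (CommRingCat.of k))}
    (f : CommRingCat.of k ⟶ R) (h : X.obj.IsRepresentable) : (bc X f).obj.IsRepresentable :=
  isRepresentable_congr (Category.id_comp f)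
    (isRepresentable_bc_comp (𝟙 _) f (isRepresentable_of_iso bcId.symm h))

set_option maxHeartbeats 1000000 in
/-- A separated group algebraic space over a field is a scheme over an algebraically closed
extension. -/
theorem isRepresentable_bc_algClosed
    (G : Over ((yon (Spec (CommRingCat.of k))).obj (Over.mk (𝟙 _)))) [GrpObj G]
    (hG : IsAlgSpace G.left) (hsep : IsSeparatedSp G.left)
    (kb : Type u) [Field kb] [Algebra k kb] [IsAlgClosed kb] :
    (bc G.left (CommRingCat.ofHom (algebraMap k kb))).obj.IsRepresentable := by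
  let B : Scheme.{u} := Spec (CommRingCat.of k)
  let b : Over B := Over.mk (𝟙 B)
  have hb : IsTerminal ((yon B).obj b) := Over.mkIdTerminal.isTerminalObj (yon B)
  let X : Sp B := G.left
  let Eb : Over B := Over.mk (Spec.map (CommRingCat.ofHom (algebraMap k kb)))
  let Y := bc X (CommRingCat.ofHom (algebraMap k kb))
  have hY : IsAlgSpace Y := AlgSpace.isAlgSpace_prod hG (IsAlgSpace.yon_obj _)
  have hqs : IsQuasiSeparatedSp X :=
    AlgSpace.repWith_mono hsep fun _ _ g (_ : IsClosedImmersion g) => (inferInstance : QuasiCompact g)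
  have hdec := AlgSpDecent.QS.isDecent_of_isQuasiSeparatedSp hG hqs
  suffices key : ∀ y : Points Y, ∃ (V : Sp B) (j : V ⟶ Y), RepWith @IsOpenImmersion j ∧
      V.obj.IsRepresentable ∧ y ∈ Set.range (Points.map j) by
    obtain ⟨U, a, -, has⟩ := hY.atlas
    choose V j hj hV hmem using fun u : U.left => key (Points.ofPt a u)
    exact isRepresentable_of_cover hY hj hV fun y => by
      obtain ⟨u, rfl⟩ := AlgSpace.surjective_ofPt has y
      exact ⟨u, hmem u⟩
  intro y
  obtain ⟨T, a, t, rfl⟩ := AlgSpace.exists_ofPt_eq y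
  -- a field point at the point
  let EL : Over B := Over.mk (T.left.fromSpecResidueField t ≫ T.hom)
  let iL : EL ⟶ T := Over.homMk (T.left.fromSpecResidueField t) rfl
  let pL : EL.left := IsLocalRing.closedPoint (T.left.residueField t)
  let qz : (yon B).obj EL ⟶ Y := (yon B).map iL ≫ a
  have hqz : Points.ofPt qz pL = Points.ofPt a t :=
    (AlgSpace.ofPt_yon_map_comp iL a pL).trans (congrArg _ (Scheme.fromSpecResidueField_apply t _))
  obtain ⟨sL, hsL⟩ := (yon B).map_surjective (qz ≫ prod.snd)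
  -- a scheme open and a field point in it
  obtain ⟨QW, l, -, hl, ⟨_, ⟨w₀, -⟩⟩, -⟩ := AlgSpDecent.DenseOpen.exists_open_scheme_in hG hdec
    isOpen_univ ⟨Points.map (prod.fst : Y ⟶ X) (Points.ofPt a t), trivial⟩
  let m := Points.toScheme QW w₀
  let EM : Over B := Over.mk (QW.left.fromSpecResidueField m ≫ QW.hom)
  let iM : EM ⟶ QW := Over.homMk (QW.left.fromSpecResidueField m) rfl
  -- a common field
  let cL : EL ⟶ b := Over.homMk EL.hom (Category.comp_id _)
  let cM : EM ⟶ b := Over.homMk EM.hom (Category.comp_id _)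
  have sQ := (IsPullback.of_hasPullback cL cM).map (yon B)
  obtain ⟨q, -, -⟩ := AlgSpace.exists_of_isPullback sQ (Points.ofScheme EL pL)
    (Points.ofScheme EM (IsLocalRing.closedPoint (QW.left.residueField m))) (by
      rw [← Points.ofPt_eq_map_ofScheme, ← Points.ofPt_eq_map_ofScheme,
        ← Points.ofScheme_toScheme b (Points.ofPt _ pL),
        ← Points.ofScheme_toScheme b (Points.ofPt ((yon B).map cM) _)]
      exact congrArg _ (Subsingleton.elim (α := ↥(Spec (CommRingCat.of k))) _ _))
  let qs := Points.toScheme _ q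
  let K : Type u := (pullback cL cM).left.residueField qs
  let eK : Spec (CommRingCat.of K) ⟶ (pullback cL cM).left :=
    (pullback cL cM).left.fromSpecResidueField qs
  let ψ : CommRingCat.of kb ⟶ CommRingCat.of K :=
    Spec.preimage (eK ≫ (pullback.fst cL cM).left ≫ sL.left)
  letI : Algebra kb K := ψ.hom.toAlgebra
  letI : Algebra k K := (ψ.hom.comp (algebraMap k kb)).toAlgebra
  haveI : IsScalarTower k kb K := IsScalarTower.of_algebraMap_eq fun _ => rfl
  let EK : Over B := Over.mk (Spec.map (CommRingCat.ofHom (algebraMap k K)))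
  have hψ : Spec.map (CommRingCat.ofHom (algebraMap kb K)) =
      eK ≫ (pullback.fst cL cM).left ≫ sL.left := by
    rw [RingHom.algebraMap_toAlgebra, CommRingCat.ofHom_hom, Spec.map_preimage]
  have hEK : eK ≫ (pullback cL cM).hom = EK.hom := by
    show _ = Spec.map (CommRingCat.ofHom ((algebraMap kb K).comp (algebraMap k kb)))
    rw [CommRingCat.ofHom_comp, Spec.map_comp, hψ, ← Over.w (pullback.fst cL cM), ← Over.w sL]
    simp only [Category.assoc]
    rfl
  let e : EK ⟶ pullback cL cM := Over.homMk eK hEK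
  let c₀ : EK ⟶ Eb := e ≫ pullback.fst cL cM ≫ sL
  -- translate
  let g : (yon B).obj EK ⟶ X := (yon B).map (e ≫ pullback.fst cL cM) ≫ qz ≫ prod.fst
  let h : (yon B).obj EK ⟶ X := (yon B).map (e ≫ pullback.snd cL cM ≫ iM) ≫ l
  obtain ⟨τ, -, hτ⟩ := exists_translation hb G EK g h
  let W := bc ((yon B).obj QW) (CommRingCat.ofHom (algebraMap k K))
  let jW : W ⟶ bc X (CommRingCat.ofHom (algebraMap k K)) := prod.map l (𝟙 _) ≫ τ.inv
  let v : (yon B).obj EK ⟶ W := prod.lift ((yon B).map (e ≫ pullback.snd cL cM ≫ iM)) (𝟙 _)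
  have hv : v ≫ jW = prod.lift g (𝟙 _) := by
    rw [← cancel_mono τ.hom]
    simp only [jW, Category.assoc, Iso.inv_hom_id, Category.comp_id]
    rw [hτ]
    exact prod.lift_map _ _ _ _ |>.trans (by rw [Category.comp_id])
  let pK : EK.left := IsLocalRing.closedPoint K
  obtain ⟨V, j, hj, hV, hmem⟩ := AlgClosedSchLocus.Basic.exists_scheme_nhd hG hqs K c₀ hψ.symm
    (isRepresentable_bc _ (AlgSpDecent.OpenScheme.isRepresentable_yon QW)) jW
    ((AlgSpace.repWith_comp_iso_iff _ _ τ.inv).2 (repWith_bc_map hl _)) (Points.ofPt v pK)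
  refine ⟨V, j, hj, hV, ?_⟩
  rw [Points.map_ofPt, hv, Points.map_ofPt] at hmem
  have hg : prod.lift g (𝟙 _) ≫ prod.map (𝟙 X) ((yon B).map c₀) =
      (yon B).map (e ≫ pullback.fst cL cM) ≫ qz := by
    refine prod.hom_ext ?_ ?_
    · simp only [g, Category.assoc, prod.map_fst, Category.comp_id, prod.lift_fst]
      rfl
    · simp only [Category.assoc, prod.map_snd, prod.lift_snd_assoc, Category.id_comp, c₀]
      rw [Functor.map_comp, Functor.map_comp, Functor.map_comp, hsL]
      simp only [qz, Category.assoc]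
      rfl
  rw [hg, AlgSpace.ofPt_yon_map_comp, Subsingleton.elim (α := PrimeSpectrum (T.left.residueField t))
    ((e ≫ pullback.fst cL cM).left pK) pL, hqz] at hmem
  exact hmem

end Groth.Agent.H8.GroupScheme.Basic
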