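import Groth.Agent.H8.GroupScheme.Mul
import Groth.Agent.Lib.AlgSpNormCover.Restrict

/-! # The fibres over the maximal generization of the unit of a group algebraic space -/

set_option autoImplicit false
set_option linter.style.haveILetI false
set_option backward.isDefEq.respectTransparency false
set_option backward.isDefEq.respectTransparency.types false

universe u

open CategoryTheory CategoryTheory.Limits AlgebraicGeometry Topology
open scoped MonObj
open AlgSp (Sp yon RepWith IsAlgSpace IsDecent Points HasAt IsQuasiSeparatedSp)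
open Groth.Agent.Lib Groth.Agent.Lib.AlgSpace
open Groth.Agent.H8.GroupScheme.Mul

namespace Groth.Agent.H8.GroupScheme.Fibre

variable {k : Type u} [Field k]

theorem exists_algHom (K Ω : Type u) [Field K] [Field Ω] [IsAlgClosed Ω] [Algebra k K]
    [Algebra k Ω] [Algebra.IsAlgebraic k K] : Nonempty (K →ₐ[k] Ω) :=
  ⟨IsAlgClosed.lift⟩

/-- The projection to the base object. -/
noncomputable def str0 (E : Over (Spec (CommRingCat.of k))) :
    E ⟶ (Over.mk (𝟙 (Spec (CommRingCat.of k))) : Over (Spec (CommRingCat.of k))) :=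
  Over.homMk E.hom (Category.comp_id _)

variable {X : Sp (Spec (CommRingCat.of k))}

/-- The fibre of `X ⨯ E` over the point of `q`. -/
noncomputable def fibreMap {EQ : Over (Spec (CommRingCat.of k))}
    (q : (yon (Spec (CommRingCat.of k))).obj EQ ⟶ X) (E : Over (Spec (CommRingCat.of k))) :
    (yon (Spec (CommRingCat.of k))).obj (pullback (str0 EQ) (str0 E)) ⟶
      X ⨯ (yon (Spec (CommRingCat.of k))).obj E :=
  prod.lift ((yon (Spec (CommRingCat.of k))).map (pullback.fst (str0 EQ) (str0 E)) ≫ q)
    ((yon (Spec (CommRingCat.of k))).map (pullback.snd (str0 EQ) (str0 E)))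

theorem isPullback_fibreMap {EQ : Over (Spec (CommRingCat.of k))}
    (q : (yon (Spec (CommRingCat.of k))).obj EQ ⟶ X) (E : Over (Spec (CommRingCat.of k))) :
    IsPullback (fibreMap q E)
      ((yon (Spec (CommRingCat.of k))).map (pullback.fst (str0 EQ) (str0 E))) prod.fst q := by
  have sQ := (IsPullback.of_hasPullback (str0 EQ) (str0 E)).map (yon (Spec (CommRingCat.of k)))
  refine AlgSpace.isPullback_of_yon (prod.lift_fst _ _)
    (fun W p r h1 h2 => sQ.hom_ext h2 ?_) fun W p r w => ?_
  · simpa [fibreMap] using congrArg (· ≫ prod.snd) h1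
  · refine ⟨sQ.lift r (p ≫ prod.snd) (toB_ext _ _), prod.hom_ext ?_ ?_, sQ.lift_fst _ _ _⟩
    · simp [fibreMap]
      exact w.symm
    · simp [fibreMap]

theorem exists_fibreMap_eq {Q : Type u} [Field Q]
    {sQ : Spec (CommRingCat.of Q) ⟶ Spec (CommRingCat.of k)}
    (q : (yon (Spec (CommRingCat.of k))).obj (Over.mk sQ) ⟶ X) (E : Over (Spec (CommRingCat.of k)))
    {z : Points (X ⨯ (yon (Spec (CommRingCat.of k))).obj E)}
    (hz : Points.map prod.fst z = Points.ofPt q (IsLocalRing.closedPoint Q)) :
    ∃ w, Points.ofPt (fibreMap q E) w = z := by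
  obtain ⟨w, hw, -⟩ := AlgSpace.exists_of_isPullback (isPullback_fibreMap q E) z
    (Points.ofScheme _ (IsLocalRing.closedPoint Q)) (by rw [← Points.ofPt_eq_map_ofScheme]; exact hz)
  exact ⟨Points.toScheme _ w, by rw [Points.ofPt_eq_map_ofScheme, Points.ofScheme_toScheme, hw]⟩

/-- A point of codimension zero comes with a field point whose base changes are embeddings. -/
theorem exists_embedded_pt (hX : IsAlgSpace X) (hqs : IsQuasiSeparatedSp X) (ξ : Points X)
    (hξ : HasAt (fun U u => ringKrullDim ↥(U.presheaf.stalk u) = 0) X ξ) :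
    ∃ (Q : Type u) (_ : Field Q) (sQ : Spec (CommRingCat.of Q) ⟶ Spec (CommRingCat.of k))
      (q : (yon (Spec (CommRingCat.of k))).obj (Over.mk sQ) ⟶ X),
      Points.ofPt q (IsLocalRing.closedPoint Q) = ξ ∧
        ∀ E, IsInducing (Points.ofPt (fibreMap q E)) := by
  obtain ⟨W, l, -, hl, ⟨m₀, rfl⟩⟩ := AlgSpDecent.QSCharts.exists_open_scheme_of_qs hX hqs ξ hξ
  let m := Points.toScheme W m₀
  let i : (Over.mk (W.left.fromSpecResidueField m ≫ W.hom) : Over (Spec (CommRingCat.of k))) ⟶ W :=
    Over.homMk (W.left.fromSpecResidueField m) rfl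
  refine ⟨W.left.residueField m, inferInstance, W.left.fromSpecResidueField m ≫ W.hom,
    (yon (Spec (CommRingCat.of k))).map i ≫ l, ?_, fun E => ?_⟩
  · refine (AlgSpace.ofPt_yon_map_comp i l _).trans ?_
    refine (congrArg _ (Scheme.fromSpecResidueField_apply m _)).trans ?_
    rw [Points.ofPt_eq_map_ofScheme, Points.ofScheme_toScheme]
  let EF : Over (Spec (CommRingCat.of k)) := Over.mk (W.left.fromSpecResidueField m ≫ W.hom)
  let φ : pullback (str0 EF) (str0 E) ⟶ pullback (str0 W) (str0 E) :=
    pullback.lift (pullback.fst (str0 EF) (str0 E) ≫ i) (pullback.snd (str0 EF) (str0 E))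
      (Over.mkIdTerminal.hom_ext _ _)
  let lW : (yon (Spec (CommRingCat.of k))).obj (pullback (str0 W) (str0 E)) ⟶ X ⨯ (yon (Spec (CommRingCat.of k))).obj E :=
    prod.lift ((yon (Spec (CommRingCat.of k))).map (pullback.fst (str0 W) (str0 E)) ≫ l)
      ((yon (Spec (CommRingCat.of k))).map (pullback.snd (str0 W) (str0 E)))
  have hlW : RepWith @IsOpenImmersion lW :=
    AlgSpace.repWith_baseChange (isPullback_fibreMap l E).flip hl
  have e : fibreMap ((yon (Spec (CommRingCat.of k))).map i ≫ l) E = (yon (Spec (CommRingCat.of k))).map φ ≫ lW := by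
    refine prod.hom_ext ?_ ?_
    · simp only [fibreMap, lW, Category.assoc, prod.lift_fst]
      rw [← Category.assoc ((yon (Spec (CommRingCat.of k))).map φ), ← Functor.map_comp, pullback.lift_fst,
        Functor.map_comp, Category.assoc]
    · simp only [fibreMap, lW, Category.assoc, prod.lift_snd]
      rw [← Functor.map_comp, pullback.lift_snd]
  have t := (IsPullback.of_hasPullback (str0 W) (str0 E)).flip
  have s : IsPullback (φ ≫ pullback.snd (str0 W) (str0 E)) (pullback.fst (str0 EF) (str0 E))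
      (str0 E) (i ≫ str0 W) := by
    rw [pullback.lift_snd, show i ≫ str0 W = str0 EF from Over.mkIdTerminal.hom_ext _ _]
    exact (IsPullback.of_hasPullback (str0 EF) (str0 E)).flip
  have sqφ := (s.of_right (pullback.lift_fst _ _ _) t).map (Over.forget (Spec (CommRingCat.of k)))
  haveI : IsPreimmersion φ.left :=
    MorphismProperty.of_isPullback (P := @IsPreimmersion) sqφ.flip
      (inferInstanceAs (IsPreimmersion (W.left.fromSpecResidueField m)))
  have he : Points.ofPt (fibreMap ((yon (Spec (CommRingCat.of k))).map i ≫ l) E) =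
      (Points.map lW ∘ Points.schemeHomeo _) ∘ φ.left := funext fun w => by
    show _ = Points.map lW (Points.ofScheme _ (φ.left w))
    rw [e, AlgSpace.ofPt_yon_map_comp, Points.ofPt_eq_map_ofScheme]
  rw [he]
  exact ((AlgSpace.isOpenEmbedding_map hlW).isInducing.comp
    (Points.schemeHomeo _).isInducing).comp φ.left.isEmbedding.isInducing

/-- Over an algebraically closed field, the fibre of a point after a field extension has a generic
point. -/
theorem exists_gen_preimage {Ω F : Type u} [Field Ω] [IsAlgClosed Ω] [Field F]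
    {sΩ : Spec (CommRingCat.of Ω) ⟶ Spec (CommRingCat.of k)}
    {sF : Spec (CommRingCat.of F) ⟶ Spec (CommRingCat.of k)}
    (c : (Over.mk sF : Over (Spec (CommRingCat.of k))) ⟶ Over.mk sΩ)
    (p : Points (X ⨯ (yon (Spec (CommRingCat.of k))).obj (Over.mk sΩ))) :
    ∃ g, Points.map (prod.map (𝟙 X) ((yon (Spec (CommRingCat.of k))).map c)) g = p ∧
      Points.map (prod.map (𝟙 X) ((yon (Spec (CommRingCat.of k))).map c)) ⁻¹' {p} ⊆ closure {g} := by
  obtain ⟨F₀, iF₀, s₀, q₀, hq₀⟩ := exists_fieldPt p
  obtain ⟨c₀, hc₀⟩ := (yon (Spec (CommRingCat.of k))).map_surjective (q₀ ≫ prod.snd)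
  have sP := (IsPullback.of_hasPullback c₀ c).map (yon (Spec (CommRingCat.of k)))
  have sqL := (IsPullback.of_hasPullback c₀ c).map (Over.forget (Spec (CommRingCat.of k)))
  haveI hP : IrreducibleSpace ↥(pullback c₀ c).left := by
    haveI : GeometricallyIrreducible c₀.left := by
      obtain ⟨φ, hφ⟩ := Spec.map_surjective c₀.left
      rw [← hφ]
      letI : Algebra Ω F₀ := φ.hom.toAlgebra
      exact GeomConn.SepClosed.geometricallyIrreducible_specMap Ω F₀
    haveI : UniversallyOpen c₀.left := (ActSep.universallyOpen_fieldPoint Ω F₀ c₀.left).1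
    haveI : GeometricallyIrreducible (pullback.snd c₀ c).left :=
      MorphismProperty.of_isPullback (P := @GeometricallyIrreducible) sqL ‹_›
    haveI : UniversallyOpen (pullback.snd c₀ c).left :=
      MorphismProperty.of_isPullback (P := @UniversallyOpen) sqL ‹_›
    haveI : IrreducibleSpace ↥(Over.mk sF : Over (Spec (CommRingCat.of k))).left :=
      inferInstanceAs (IrreducibleSpace ↥(Spec (CommRingCat.of F)))
    exact GeometricallyIrreducible.irreducibleSpace (pullback.snd c₀ c).left
      (pullback.snd c₀ c).left.isOpenMap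
  let i : (yon (Spec (CommRingCat.of k))).obj (pullback c₀ c) ⟶ X ⨯ (yon (Spec (CommRingCat.of k))).obj (Over.mk sF) :=
    prod.lift ((yon (Spec (CommRingCat.of k))).map (pullback.fst c₀ c) ≫ q₀ ≫ prod.fst) ((yon (Spec (CommRingCat.of k))).map (pullback.snd c₀ c))
  have sq : IsPullback i ((yon (Spec (CommRingCat.of k))).map (pullback.fst c₀ c)) (prod.map (𝟙 X) ((yon (Spec (CommRingCat.of k))).map c)) q₀ := by
    refine AlgSpace.isPullback_of_yon (prod.hom_ext ?_ ?_)
      (fun W p r h1 h2 => sP.hom_ext h2 ?_) fun W p r w => ?_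
    · simp [i]
    · simp only [i, Category.assoc, prod.map_snd, prod.lift_snd_assoc]
      rw [← hc₀, sP.w]
    · simpa [i] using congrArg (· ≫ prod.snd) h1
    · have w' : r ≫ (yon (Spec (CommRingCat.of k))).map c₀ = (p ≫ prod.snd) ≫ (yon (Spec (CommRingCat.of k))).map c := by
        rw [hc₀]
        simpa using (congrArg (· ≫ prod.snd) w).symm
      refine ⟨sP.lift r (p ≫ prod.snd) w', prod.hom_ext ?_ ?_, sP.lift_fst _ _ _⟩
      · simp only [i, Category.assoc, prod.lift_fst]
        rw [← Category.assoc, sP.lift_fst]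
        simpa using (congrArg (· ≫ prod.fst) w).symm
      · simp only [i, Category.assoc, prod.lift_snd]
        exact sP.lift_snd _ _ _
  refine ⟨Points.ofPt i (genericPoint ↥(pullback c₀ c).left), ?_, fun z hz => ?_⟩
  · rw [Points.map_ofPt, sq.w, AlgSpace.ofPt_yon_map_comp,
      Subsingleton.elim (α := PrimeSpectrum F₀) ((pullback.fst c₀ c).left _)
        (IsLocalRing.closedPoint F₀), hq₀]
  · obtain ⟨w, rfl, -⟩ := AlgSpace.exists_of_isPullback sq z
      (Points.ofScheme _ (IsLocalRing.closedPoint F₀))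
      (by rw [← Points.ofPt_eq_map_ofScheme, hq₀]; exact hz)
    rw [← specializes_iff_mem_closure, ← Points.ofScheme_toScheme _ w, ← Points.ofPt_eq_map_ofScheme]
    exact (genericPoint_specializes _).map (Points.continuous_ofPt i)

variable {G : Over ((yon (Spec (CommRingCat.of k))).obj (Over.mk (𝟙 (Spec (CommRingCat.of k)))))}
  [GrpObj G]

set_option maxHeartbeats 1000000 in
/-- Maximal points of the fibre over a maximal generization of the unit generize the unit. -/
theorem fibre_specializes (hG : IsAlgSpace G.left) {Q L : Type u} [Field Q] [Field L]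
    {sQ : Spec (CommRingCat.of Q) ⟶ Spec (CommRingCat.of k)}
    {sL : Spec (CommRingCat.of L) ⟶ Spec (CommRingCat.of k)}
    (q : (yon (Spec (CommRingCat.of k))).obj (Over.mk sQ) ⟶ G.left)
    (hq : Points.ofPt q (IsLocalRing.closedPoint Q) ⤳
      Points.ofPt (1 : (yon (Spec (CommRingCat.of k))).obj (Over.mk (𝟙 _)) ⟶ G.left)
        (IsLocalRing.closedPoint k))
    (hind : ∀ E, IsInducing (Points.ofPt (fibreMap q E)))
    (w : (pullback (str0 (Over.mk sQ)) (str0 (Over.mk sL))).left)
    (hw : ∀ w', w' ⤳ w → w' = w) :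
    Points.ofPt (fibreMap q (Over.mk sL)) w ⤳
      Points.ofPt (prod.lift (1 : (yon (Spec (CommRingCat.of k))).obj (Over.mk sL) ⟶ G.left) (𝟙 _))
        (IsLocalRing.closedPoint L) := by
  let b : Over (Spec (CommRingCat.of k)) := Over.mk (𝟙 (Spec (CommRingCat.of k)))
  let P := pullback (str0 (Over.mk sQ)) (str0 (Over.mk sL))
  let Ω := AlgebraicClosure (P.left.residueField w)
  let ωl : Spec (CommRingCat.of Ω) ⟶ P.left :=
    Spec.map (CommRingCat.ofHom (algebraMap (P.left.residueField w) Ω)) ≫
      P.left.fromSpecResidueField w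
  letI : Algebra k Ω := (Spec.preimage (ωl ≫ P.hom)).hom.toAlgebra
  let kb := AlgebraicClosure k
  obtain ⟨ψ⟩ := exists_algHom (k := k) kb Ω
  let EΩ : Over (Spec (CommRingCat.of k)) := Over.mk (ωl ≫ P.hom)
  let EK : Over (Spec (CommRingCat.of k)) := Over.mk (Spec.map (CommRingCat.ofHom (algebraMap k kb)))
  let ω : EΩ ⟶ P := Over.homMk ωl rfl
  let cL : EΩ ⟶ Over.mk sL := ω ≫ pullback.snd _ _
  let cK : EΩ ⟶ EK := Over.homMk (Spec.map (CommRingCat.ofHom ψ.toRingHom)) (by
    show Spec.map _ ≫ Spec.map _ = ωl ≫ P.hom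
    rw [← Spec.map_comp, ← CommRingCat.ofHom_comp]
    erw [ψ.comp_algebraMap]
    rw [RingHom.algebraMap_toAlgebra, CommRingCat.ofHom_hom, Spec.map_preimage])
  let pΩ : EΩ.left := IsLocalRing.closedPoint Ω
  let rη : (yon (Spec (CommRingCat.of k))).obj EΩ ⟶ G.left :=
    (yon (Spec (CommRingCat.of k))).map (ω ≫ pullback.fst (str0 (Over.mk sQ)) (str0 (Over.mk sL))) ≫ q
  let pη := Points.ofPt (prod.lift rη (𝟙 _)) pΩ
  let μK := prod.map (𝟙 G.left) ((yon (Spec (CommRingCat.of k))).map cK)
  let μL := prod.map (𝟙 G.left) ((yon (Spec (CommRingCat.of k))).map cL)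
  let p₀ := Points.map μK pη
  have hπη : Points.map prod.fst pη = Points.ofPt q (IsLocalRing.closedPoint Q) := by
    rw [Points.map_ofPt, prod.lift_fst, AlgSpace.ofPt_yon_map_comp,
      Subsingleton.elim (α := PrimeSpectrum Q) ((ω ≫ pullback.fst _ _).left pΩ)
        (IsLocalRing.closedPoint Q)]
  have hπμK : ∀ z, Points.map (prod.fst : G.left ⨯ (yon (Spec (CommRingCat.of k))).obj EK ⟶ _) (Points.map μK z) =
      Points.map prod.fst z := fun z => by
    rw [← Points.map_comp, prod.map_fst, Category.comp_id]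
  have hπ₀ : Points.map prod.fst p₀ = Points.ofPt q (IsLocalRing.closedPoint Q) :=
    (hπμK pη).trans hπη
  -- over the algebraic closure
  let pK : EK.left := IsLocalRing.closedPoint kb
  have h₀ : p₀ ⤳ Points.ofPt (prod.lift (1 : (yon (Spec (CommRingCat.of k))).obj EK ⟶ G.left) (𝟙 _)) pK := by
    have hint : RepWith @IsIntegralHom (prod.fst : G.left ⨯ (yon (Spec (CommRingCat.of k))).obj EK ⟶ G.left) := by
      refine AlgSpace.repWith_baseChange (isPullback_fst EK).flip ?_
      rw [show toB ((yon (Spec (CommRingCat.of k))).obj EK) = (yon (Spec (CommRingCat.of k))).map (str0 EK) from toB_ext _ _]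
      exact (AlgSp.repWith_yon_map_iff _ _).2
        (IsIntegralHom.SpecMap_iff.2 (fun a => Algebra.IsIntegral.isIntegral (R := k) a))
    have hcl := AlgSpNormCover.isClosedMap_map hG hint _ (isClosed_closure (s := {p₀}))
    let pb : b.left := IsLocalRing.closedPoint k
    obtain ⟨z, hz, hze⟩ := closure_minimal
      ((Set.singleton_subset_iff (s := Points.map prod.fst '' closure {p₀})).2
        ⟨p₀, subset_closure rfl, hπ₀⟩) hcl
      (specializes_iff_mem_closure.1 hq)
    have sK := (IsPullback.of_hasPullback (𝟙 b) (str0 EK)).map (yon (Spec (CommRingCat.of k)))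
    have sq : IsPullback (prod.lift (1 : (yon (Spec (CommRingCat.of k))).obj EK ⟶ G.left) (𝟙 _)) ((yon (Spec (CommRingCat.of k))).map (str0 EK))
        prod.fst (1 : (yon (Spec (CommRingCat.of k))).obj b ⟶ G.left) := by
      refine AlgSpace.isPullback_of_yon (by rw [prod.lift_fst, comp_one])
        (fun W p r h1 _ => by simpa using congrArg (· ≫ prod.snd) h1) fun W p r hpr => ?_
      refine ⟨p ≫ prod.snd, prod.hom_ext ?_ ?_, toB_ext _ _⟩
      · rw [Category.assoc, prod.lift_fst, comp_one, hpr, comp_one]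
      · rw [Category.assoc, prod.lift_snd, Category.comp_id]
    obtain ⟨v, rfl, -⟩ := AlgSpace.exists_of_isPullback sq z (Points.ofScheme b pb)
      (by rw [← Points.ofPt_eq_map_ofScheme]; exact hze)
    rw [specializes_iff_mem_closure]
    convert hz using 1
    rw [← Points.ofScheme_toScheme EK v, ← Points.ofPt_eq_map_ofScheme]
    exact congrArg _ (Subsingleton.elim (α := PrimeSpectrum kb) _ _)
  -- the generic point of the fibre over the point of the algebraic closure
  obtain ⟨g, hg, hfib⟩ := exists_gen_preimage cK p₀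
  have hg₁ : g ⤳ pη := specializes_iff_mem_closure.2 (hfib rfl)
  have hg₂ : g ⤳ Points.ofPt (prod.lift (1 : (yon (Spec (CommRingCat.of k))).obj EΩ ⟶ G.left) (𝟙 _)) pΩ := by
    rw [specializes_iff_mem_closure]
    refine closure_minimal hfib isClosed_closure
      ((isOpenMap_map cK).preimage_closure_subset_closure_preimage ?_)
    show Points.map μK _ ∈ closure {p₀}
    rw [← specializes_iff_mem_closure, Points.map_ofPt, show
      prod.lift (1 : (yon (Spec (CommRingCat.of k))).obj EΩ ⟶ G.left) (𝟙 _) ≫ μK =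
        (yon (Spec (CommRingCat.of k))).map cK ≫ prod.lift 1 (𝟙 _) by
        apply prod.hom_ext <;> simp [μK, comp_one], AlgSpace.ofPt_yon_map_comp,
      Subsingleton.elim (α := PrimeSpectrum kb) (cK.left pΩ) pK]
    exact h₀
  -- down to the given field
  have hμη : Points.map μL pη = Points.ofPt (fibreMap q (Over.mk sL)) w := by
    rw [Points.map_ofPt, show prod.lift rη (𝟙 _) ≫ μL = (yon (Spec (CommRingCat.of k))).map ω ≫ fibreMap q (Over.mk sL) by
      apply prod.hom_ext <;> simp [μL, rη, cL, fibreMap], AlgSpace.ofPt_yon_map_comp]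
    exact congrArg _ (Scheme.fromSpecResidueField_apply w _)
  have hπg : Points.map prod.fst (Points.map μL g) = Points.ofPt q (IsLocalRing.closedPoint Q) := by
    rw [← Points.map_comp, prod.map_fst, Category.comp_id, ← hπμK, hg, hπ₀]
  obtain ⟨w', hw'⟩ := exists_fibreMap_eq q (Over.mk sL) hπg
  have hspec : Points.ofPt (fibreMap q (Over.mk sL)) w' ⤳ Points.ofPt (fibreMap q (Over.mk sL)) w :=
    hw' ▸ hμη ▸ hg₁.map (Points.continuous_map μL)
  obtain rfl := hw w' ((hind _).specializes_iff.1 hspec)
  rw [hw']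
  have h := hg₂.map (Points.continuous_map μL)
  rwa [Points.map_ofPt, show prod.lift (1 : (yon (Spec (CommRingCat.of k))).obj EΩ ⟶ G.left) (𝟙 _) ≫ μL =
      (yon (Spec (CommRingCat.of k))).map cL ≫ prod.lift 1 (𝟙 _) by
      apply prod.hom_ext <;> simp [μL, comp_one], AlgSpace.ofPt_yon_map_comp,
    Subsingleton.elim (α := PrimeSpectrum L) (cL.left pΩ) (IsLocalRing.closedPoint L)] at h

/-- The translates of a point by maximal points of the fibre over the generization of the unit
are maximal generizations. -/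
theorem isMax_translate (hG : IsAlgSpace G.left) (hdec : IsDecent G.left) {Q L : Type u}
    [Field Q] [Field L]
    {sQ : Spec (CommRingCat.of Q) ⟶ Spec (CommRingCat.of k)}
    {sL : Spec (CommRingCat.of L) ⟶ Spec (CommRingCat.of k)}
    (q : (yon (Spec (CommRingCat.of k))).obj (Over.mk sQ) ⟶ G.left)
    (hmax : IsMax (Points.ofPt q (IsLocalRing.closedPoint Q)))
    (hq : Points.ofPt q (IsLocalRing.closedPoint Q) ⤳
      Points.ofPt (1 : (yon (Spec (CommRingCat.of k))).obj (Over.mk (𝟙 _)) ⟶ G.left)
        (IsLocalRing.closedPoint k))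
    (hind : ∀ E, IsInducing (Points.ofPt (fibreMap q E)))
    (qx : (yon (Spec (CommRingCat.of k))).obj (Over.mk sL) ⟶ G.left)
    (w : (pullback (str0 (Over.mk sQ)) (str0 (Over.mk sL))).left)
    (hw : ∀ w', w' ⤳ w → w' = w) :
    IsMax (Points.ofPt (((yon _).map (pullback.fst (str0 (Over.mk sQ)) (str0 (Over.mk sL))) ≫ q) *
      ((yon _).map (pullback.snd (str0 (Over.mk sQ)) (str0 (Over.mk sL))) ≫ qx)) w) ∧
    Points.ofPt (((yon _).map (pullback.fst (str0 (Over.mk sQ)) (str0 (Over.mk sL))) ≫ q) *
      ((yon _).map (pullback.snd (str0 (Over.mk sQ)) (str0 (Over.mk sL))) ≫ qx)) w ⤳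
        Points.ofPt qx (IsLocalRing.closedPoint L) := by
  let EL : Over (Spec (CommRingCat.of k)) := Over.mk sL
  let j := fibreMap q EL
  let ρ : G.left ⨯ (yon (Spec (CommRingCat.of k))).obj EL ⟶ G.left ⨯ (yon (Spec (CommRingCat.of k))).obj EL :=
    prod.lift (prod.fst * (prod.snd ≫ qx)) prod.snd
  let ρ' : G.left ⨯ (yon (Spec (CommRingCat.of k))).obj EL ⟶ G.left ⨯ (yon (Spec (CommRingCat.of k))).obj EL :=
    prod.lift (prod.fst * (prod.snd ≫ qx)⁻¹) prod.snd
  have h1 : ρ ≫ ρ' = 𝟙 _ := by
    refine prod.hom_ext ?_ (by simp [ρ, ρ'])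
    simp only [ρ, ρ', Category.assoc, prod.lift_fst, comp_mul, comp_inv, Category.id_comp]
    rw [prod.lift_fst, prod.lift_snd_assoc, mul_inv_cancel_right]
  have h2 : ρ' ≫ ρ = 𝟙 _ := by
    refine prod.hom_ext ?_ (by simp [ρ, ρ'])
    simp only [ρ, ρ', Category.assoc, prod.lift_fst, comp_mul, comp_inv, Category.id_comp]
    rw [prod.lift_fst, prod.lift_snd_assoc, inv_mul_cancel_right]
  let M := ((yon (Spec (CommRingCat.of k))).map (pullback.fst (str0 (Over.mk sQ)) (str0 EL)) ≫ q) *
      ((yon (Spec (CommRingCat.of k))).map (pullback.snd (str0 (Over.mk sQ)) (str0 EL)) ≫ qx)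
  have hM : j ≫ ρ ≫ prod.fst = M := by
    simp only [ρ, j, M, fibreMap, prod.lift_fst, comp_mul]
    rw [prod.lift_fst, prod.lift_snd_assoc]
  have hc := Points.continuous_map (ρ ≫ prod.fst)
  refine ⟨fun y hy => ?_, ?_⟩
  · have hy' : y ⤳ Points.map prod.fst (Points.map ρ (Points.ofPt j w)) := by
      rw [← Points.map_comp, Points.map_ofPt, hM]; exact hy
    obtain ⟨z', hz', rfl⟩ := exists_lift_gen hG hdec _ hy'
    have hz : Points.map ρ' z' ⤳ Points.ofPt j w := by
      have := hz'.map (Points.continuous_map ρ')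
      rwa [← Points.map_comp, h1, Points.map_id] at this
    have hπ : Points.map prod.fst (Points.map ρ' z') = Points.ofPt q (IsLocalRing.closedPoint Q) := by
      refine hmax _ ?_
      have := hz.map (Points.continuous_map (prod.fst : G.left ⨯ (yon (Spec (CommRingCat.of k))).obj EL ⟶ _))
      simp only [j, fibreMap] at this
      rwa [Points.map_ofPt, prod.lift_fst, AlgSpace.ofPt_yon_map_comp,
        Subsingleton.elim (α := PrimeSpectrum Q) ((pullback.fst (str0 (Over.mk sQ)) (str0 EL)).left w)
          (IsLocalRing.closedPoint Q)] at this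
    obtain ⟨w', hw'⟩ := exists_fibreMap_eq q EL hπ
    obtain rfl := hw w' ((hind EL).specializes_iff.1 (hw'.symm ▸ hz))
    have e : Points.map ρ (Points.map ρ' z') = z' := by rw [← Points.map_comp, h2, Points.map_id]
    rw [← e, ← hw', ← Points.map_comp, Points.map_ofPt, hM]
  · have h := (fibre_specializes hG q hq hind w hw).map hc
    rw [Points.map_ofPt, Points.map_ofPt, hM] at h
    convert h using 2
    simp [ρ, comp_mul]

end Groth.Agent.H8.GroupScheme.Fibre
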