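import Groth.Agent.H8.GroupScheme.Basic
import Groth.Agent.Lib.AlgSpDecent.QSCharts
import Groth.Agent.Lib.AlgSpMor.Codim
import Groth.Agent.Lib.GeomConn.SepClosed
import Groth.Agent.Lib.ActSep.SubgroupClosed
import Groth.Agent.Lib.Ideal.Prime
import Mathlib.Algebra.Group.TransferInstance

/-! # Maximal generizations in group algebraic spaces over a field -/

set_option autoImplicit false
set_option linter.style.haveILetI false
set_option backward.isDefEq.respectTransparency false
set_option backward.isDefEq.respectTransparency.types false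

universe u

open CategoryTheory CategoryTheory.Limits AlgebraicGeometry Topology
open scoped MonObj
open AlgSp (Sp yon RepWith IsAlgSpace IsDecent Points HasAt)
open Groth.Agent.Lib Groth.Agent.Lib.AlgSpace

namespace Groth.Agent.H8.GroupScheme.Mul

variable {k : Type u} [Field k]


theorem hbase (k : Type u) [Field k] :
    Nonempty (IsTerminal ((yon (Spec (CommRingCat.of k))).obj (Over.mk (𝟙 _)))) := by
  exact ⟨Over.mkIdTerminal.isTerminalObj (yon _)⟩

/-- The map to the base. -/
noncomputable def toB (Z : Sp (Spec (CommRingCat.of k))) : Z ⟶ (yon (Spec (CommRingCat.of k))).obj (Over.mk (𝟙 (Spec (CommRingCat.of k))) : Over (Spec (CommRingCat.of k))) := (hbase k).some.from Z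

theorem toB_ext {Z : Sp (Spec (CommRingCat.of k))} (f g : Z ⟶ (yon (Spec (CommRingCat.of k))).obj (Over.mk (𝟙 (Spec (CommRingCat.of k))) : Over (Spec (CommRingCat.of k)))) : f = g := (hbase k).some.hom_ext f g

section Group

variable {G : Over ((yon (Spec (CommRingCat.of k))).obj (Over.mk (𝟙 (Spec (CommRingCat.of k))) : Over (Spec (CommRingCat.of k))))}

/-- Morphisms to the total space are morphisms over the base. -/
noncomputable def homEquiv (Z : Sp (Spec (CommRingCat.of k))) : (Z ⟶ G.left) ≃ (Over.mk (toB Z) ⟶ G) where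
  toFun a := Over.homMk a (toB_ext _ _)
  invFun m := m.left
  left_inv _ := rfl
  right_inv _ := Over.OverMorphism.ext rfl

variable [GrpObj G]

noncomputable scoped instance homGroup (Z : Sp (Spec (CommRingCat.of k))) : Group (Z ⟶ G.left) :=
  (homEquiv Z).group

/-- Precomposition as a morphism of groups. -/
theorem comp_mul {Z Z' : Sp (Spec (CommRingCat.of k))} (f : Z' ⟶ Z) (a a' : Z ⟶ G.left) :
    f ≫ (a * a') = (f ≫ a) * (f ≫ a') := by
  let f' : Over.mk (toB Z') ⟶ Over.mk (toB Z) := Over.homMk f (toB_ext _ _)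
  have h := congrArg (fun m => m.left) (MonObj.comp_mul f' (homEquiv Z a) (homEquiv Z a'))
  have e : ∀ c : Z ⟶ G.left, f' ≫ homEquiv Z c = homEquiv Z' (f ≫ c) :=
    fun c => Over.OverMorphism.ext rfl
  rw [e, e] at h
  exact h

theorem comp_one {Z Z' : Sp (Spec (CommRingCat.of k))} (f : Z' ⟶ Z) : f ≫ (1 : Z ⟶ G.left) = 1 := by
  let f' : Over.mk (toB Z') ⟶ Over.mk (toB Z) := Over.homMk f (toB_ext _ _)
  exact congrArg (fun m => m.left) (MonObj.comp_one (M := G) f')

theorem comp_inv {Z Z' : Sp (Spec (CommRingCat.of k))} (f : Z' ⟶ Z) (a : Z ⟶ G.left) : f ≫ a⁻¹ = (f ≫ a)⁻¹ :=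
  eq_inv_of_mul_eq_one_left (by rw [← comp_mul, inv_mul_cancel, comp_one])

end Group

section Points

variable {X : Sp (Spec (CommRingCat.of k))}

/-- Every point is the point of a field. -/
theorem exists_fieldPt (x : Points X) :
    ∃ (F : Type u) (_ : Field F) (str : Spec (CommRingCat.of F) ⟶ (Spec (CommRingCat.of k)))
      (q : (yon (Spec (CommRingCat.of k))).obj (Over.mk str) ⟶ X), Points.ofPt q (IsLocalRing.closedPoint F) = x := by
  obtain ⟨T, a, t, rfl⟩ := AlgSpace.exists_ofPt_eq x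
  refine ⟨T.left.residueField t, inferInstance, T.left.fromSpecResidueField t ≫ T.hom,
    (yon (Spec (CommRingCat.of k))).map (Over.homMk (T.left.fromSpecResidueField t) rfl) ≫ a, ?_⟩
  exact (AlgSpace.ofPt_yon_map_comp _ a _).trans
    (congrArg _ (Scheme.fromSpecResidueField_apply t _))

theorem isPullback_map {E E' : Over (Spec (CommRingCat.of k))} (c : E' ⟶ E) :
    IsPullback (prod.map (𝟙 X) ((yon (Spec (CommRingCat.of k))).map c)) (prod.snd : X ⨯ (yon (Spec (CommRingCat.of k))).obj E' ⟶ _)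
      (prod.snd : X ⨯ (yon (Spec (CommRingCat.of k))).obj E ⟶ _) ((yon (Spec (CommRingCat.of k))).map c) :=
  isPullback_of_yon (by simp)
    (fun U p q h1 h2 ↦ prod.hom_ext (by simpa using congrArg (· ≫ prod.fst) h1) h2)
    fun U p q w ↦ ⟨prod.lift (p ≫ prod.fst) q, prod.hom_ext (by simp)
      (by simp; exact w.symm), prod.lift_snd _ _⟩

theorem isPullback_fst (E : Over (Spec (CommRingCat.of k))) :
    IsPullback (prod.fst : X ⨯ (yon (Spec (CommRingCat.of k))).obj E ⟶ X) prod.snd (toB X) (toB ((yon (Spec (CommRingCat.of k))).obj E)) :=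
  isPullback_of_yon (toB_ext _ _) (fun U p q h1 h2 ↦ prod.hom_ext h1 h2)
    fun U p q _ ↦ ⟨prod.lift p q, prod.lift_fst _ _, prod.lift_snd _ _⟩

/-- Extending the field is open on points. -/
theorem isOpenMap_map {F F' : Type u} [Field F] [Field F'] {str : Spec (CommRingCat.of F) ⟶ (Spec (CommRingCat.of k))}
    {str' : Spec (CommRingCat.of F') ⟶ (Spec (CommRingCat.of k))} (c : Over.mk str' ⟶ Over.mk str) :
    IsOpenMap (Points.map (prod.map (𝟙 X) ((yon (Spec (CommRingCat.of k))).map c))) :=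
  AlgSpace.isOpenMap_map (AlgSpace.repWith_baseChange (isPullback_map c).flip
    ((AlgSp.repWith_yon_map_iff @UniversallyOpen c).2
      (ActSep.universallyOpen_fieldPoint F F' c.left).1))

/-- A point without proper generization. -/
def IsMax (x : Points X) : Prop := ∀ y, y ⤳ x → y = x

/-- Maximal generizations exist and have codimension zero. -/
theorem exists_isMax (hX : IsAlgSpace X) (hdec : IsDecent X) (x : Points X) :
    ∃ ξ, ξ ⤳ x ∧ IsMax ξ ∧ HasAt (fun U u => ringKrullDim ↥(U.presheaf.stalk u) = 0) X ξ := by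
  obtain ⟨U, a, ha, hs⟩ := hX.atlas
  obtain ⟨u, rfl⟩ := AlgSpace.surjective_ofPt hs x
  obtain ⟨z, -, hzu, hz⟩ :=
    Ideal.Prime.exists_maximal_generization (A := (Set.univ : Set ↥U.left)) isClosed_univ
      (Set.mem_univ u)
  refine ⟨Points.ofPt a z, hzu.map (Points.continuous_ofPt a), fun y hy => ?_,
    (AlgSpMor.Codim.hasAt_dim0_iff hX ha z).2 fun y hy => hz y trivial hy⟩
  obtain ⟨y', hy', rfl⟩ := AlgSpDecent.Decent.IsDecent.exists_lift hdec ha hy
  rw [hz y' trivial hy']

/-- Generizations lift along extensions of the base field. -/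
theorem exists_lift_gen (hX : IsAlgSpace X) (hdec : IsDecent X) {F : Type u} [Field F]
    {str : Spec (CommRingCat.of F) ⟶ (Spec (CommRingCat.of k))} (z : Points (X ⨯ (yon (Spec (CommRingCat.of k))).obj (Over.mk str))) {y : Points X}
    (h : y ⤳ Points.map prod.fst z) :
    ∃ z', z' ⤳ z ∧ Points.map prod.fst z' = y := by
  obtain ⟨U, a, ha, hs⟩ := hX.atlas
  obtain ⟨u, hu⟩ := AlgSpace.surjective_ofPt hs (Points.map prod.fst z)
  obtain ⟨v, hvu, rfl⟩ := AlgSpDecent.Decent.IsDecent.exists_lift hdec ha (hu.symm ▸ h)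
  let sU : U ⟶ (Over.mk (𝟙 (Spec (CommRingCat.of k))) : Over (Spec (CommRingCat.of k))) := Over.homMk U.hom (Category.comp_id _)
  let sE : (Over.mk str : Over (Spec (CommRingCat.of k))) ⟶ (Over.mk (𝟙 (Spec (CommRingCat.of k))) : Over (Spec (CommRingCat.of k))) := Over.homMk str (Category.comp_id _)
  have sQ := (IsPullback.of_hasPullback sU sE).map (yon (Spec (CommRingCat.of k)))
  let l : (yon (Spec (CommRingCat.of k))).obj (pullback sU sE) ⟶ X ⨯ (yon (Spec (CommRingCat.of k))).obj (Over.mk str) :=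
    prod.lift ((yon (Spec (CommRingCat.of k))).map (pullback.fst sU sE) ≫ a) ((yon (Spec (CommRingCat.of k))).map (pullback.snd sU sE))
  have sq : IsPullback l ((yon (Spec (CommRingCat.of k))).map (pullback.fst sU sE)) prod.fst a := by
    refine AlgSpace.isPullback_of_yon (prod.lift_fst _ _)
      (fun W p r h1 h2 => sQ.hom_ext h2 ?_) fun W p r w => ?_
    · simpa [l] using congrArg (· ≫ prod.snd) h1
    · refine ⟨sQ.lift r (p ≫ prod.snd) (toB_ext _ _), prod.hom_ext ?_ ?_, sQ.lift_fst _ _ _⟩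
      · simp [l]
        exact w.symm
      · simp [l]
  obtain ⟨w, hw₁, hw₂⟩ := AlgSpace.exists_of_isPullback sq z (Points.ofScheme U u)
    (by rw [← Points.ofPt_eq_map_ofScheme]; exact hu.symm)
  obtain ⟨ws, rfl⟩ : ∃ ws, Points.ofScheme _ ws = w := ⟨_, Points.ofScheme_toScheme _ w⟩
  have sqL := (IsPullback.of_hasPullback sU sE).map (Over.forget (Spec (CommRingCat.of k)))
  haveI : Flat (pullback.fst sU sE).left :=
    MorphismProperty.of_isPullback (P := @Flat) sqL.flip
      ((HasRingHomProperty.Spec_iff (P := @Flat)).2 (by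
        letI : Algebra k F := (Spec.preimage str).hom.toAlgebra
        exact RingHom.flat_algebraMap_iff.2 inferInstance) |> fun h =>
        (Spec.map_preimage str ▸ h : Flat str))
  have hfu : (pullback.fst sU sE).left ws = u := by
    rw [← Points.ofPt_eq_map_ofScheme] at hw₂
    have := congrArg (Points.toScheme U) hw₂
    rwa [Points.toScheme_ofPt, Points.toScheme_ofScheme] at this
  obtain ⟨w', hw', hfw'⟩ :=
    Flat.generalizingMap (pullback.fst sU sE).left (hfu.symm ▸ hvu : v ⤳ (pullback.fst sU sE).left ws)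
  rw [← Points.ofPt_eq_map_ofScheme] at hw₁
  refine ⟨Points.ofPt l w', hw₁ ▸ hw'.map (Points.continuous_ofPt l), ?_⟩
  rw [Points.map_ofPt, prod.lift_fst, AlgSpace.ofPt_yon_map_comp, hfw']

end Points

section Common

variable {G : Over ((yon (Spec (CommRingCat.of k))).obj (Over.mk (𝟙 (Spec (CommRingCat.of k))) : Over (Spec (CommRingCat.of k))))} [GrpObj G]

set_option maxHeartbeats 800000 in
/-- Two generizations of a rational point over an algebraically closed field have a common
generization. -/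
theorem exists_common_gen {Ω : Type u} [Field Ω] [IsAlgClosed Ω]
    {str : Spec (CommRingCat.of Ω) ⟶ (Spec (CommRingCat.of k))} (r₀ : (yon (Spec (CommRingCat.of k))).obj (Over.mk str) ⟶ G.left)
    {p₁ p₂ : Points (G.left ⨯ (yon (Spec (CommRingCat.of k))).obj (Over.mk str))}
    (h₁ : p₁ ⤳ Points.ofPt (prod.lift r₀ (𝟙 _)) (IsLocalRing.closedPoint Ω))
    (h₂ : p₂ ⤳ Points.ofPt (prod.lift r₀ (𝟙 _)) (IsLocalRing.closedPoint Ω)) :
    ∃ ζ, ζ ⤳ p₁ ∧ ζ ⤳ p₂ := by
  obtain ⟨F₁, iF₁, s₁, q₁, hq₁⟩ := exists_fieldPt p₁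
  obtain ⟨F₂, iF₂, s₂, q₂, hq₂⟩ := exists_fieldPt p₂
  obtain ⟨c₁, hc₁⟩ := (yon (Spec (CommRingCat.of k))).map_surjective (q₁ ≫ prod.snd)
  obtain ⟨c₂, hc₂⟩ := (yon (Spec (CommRingCat.of k))).map_surjective (q₂ ≫ prod.snd)
  let P := pullback c₁ c₂
  have sP := (IsPullback.of_hasPullback c₁ c₂).map (yon (Spec (CommRingCat.of k)))
  let f₁ := pullback.fst c₁ c₂
  let f₂ := pullback.snd c₁ c₂
  have hP : IrreducibleSpace ↥P.left := by
    have sqL := (IsPullback.of_hasPullback c₁ c₂).map (Over.forget (Spec (CommRingCat.of k)))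
    haveI : GeometricallyIrreducible c₁.left := by
      obtain ⟨φ, hφ⟩ := Spec.map_surjective c₁.left
      rw [← hφ]
      letI : Algebra Ω F₁ := φ.hom.toAlgebra
      exact GeomConn.SepClosed.geometricallyIrreducible_specMap Ω F₁
    haveI : UniversallyOpen c₁.left := (ActSep.universallyOpen_fieldPoint Ω F₁ c₁.left).1
    haveI : GeometricallyIrreducible f₂.left :=
      MorphismProperty.of_isPullback (P := @GeometricallyIrreducible) sqL ‹_›
    haveI : UniversallyOpen f₂.left :=
      MorphismProperty.of_isPullback (P := @UniversallyOpen) sqL ‹_›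
    haveI : IrreducibleSpace ↥(Over.mk s₂ : Over (Spec (CommRingCat.of k))).left :=
      inferInstanceAs (IrreducibleSpace ↥(Spec (CommRingCat.of F₂)))
    exact GeometricallyIrreducible.irreducibleSpace f₂.left f₂.left.isOpenMap
  haveI : QuasiSober ↥P.left := inferInstance
  let pg : P.left := genericPoint P.left
  let x₁ := q₁ ≫ prod.fst
  let x₂ := q₂ ≫ prod.fst
  let M : (yon (Spec (CommRingCat.of k))).obj P ⟶ G.left ⨯ (yon (Spec (CommRingCat.of k))).obj (Over.mk str) :=
    prod.lift (((yon (Spec (CommRingCat.of k))).map f₁ ≫ x₁) * ((yon (Spec (CommRingCat.of k))).map (f₁ ≫ c₁) ≫ r₀)⁻¹ * ((yon (Spec (CommRingCat.of k))).map f₂ ≫ x₂))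
      ((yon (Spec (CommRingCat.of k))).map (f₁ ≫ c₁))
  have hsub₁ : ∀ z : (Over.mk s₁ : Over (Spec (CommRingCat.of k))).left, z = IsLocalRing.closedPoint F₁ := fun z =>
    Subsingleton.elim (α := PrimeSpectrum F₁) _ _
  have hsub₂ : ∀ z : (Over.mk s₂ : Over (Spec (CommRingCat.of k))).left, z = IsLocalRing.closedPoint F₂ := fun z =>
    Subsingleton.elim (α := PrimeSpectrum F₂) _ _
  refine ⟨Points.ofPt M pg, ?_, ?_⟩
  · -- the left factor fixed
    let μ₁ := prod.map (𝟙 G.left) ((yon (Spec (CommRingCat.of k))).map c₁)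
    let i₁ : (yon (Spec (CommRingCat.of k))).obj P ⟶ G.left ⨯ (yon (Spec (CommRingCat.of k))).obj (Over.mk s₁) := prod.lift ((yon (Spec (CommRingCat.of k))).map f₂ ≫ x₂) ((yon (Spec (CommRingCat.of k))).map f₁)
    let lam : G.left ⨯ (yon (Spec (CommRingCat.of k))).obj (Over.mk s₁) ⟶ G.left ⨯ (yon (Spec (CommRingCat.of k))).obj (Over.mk str) :=
      prod.lift ((prod.snd ≫ x₁) * (prod.snd ≫ (yon (Spec (CommRingCat.of k))).map c₁ ≫ r₀)⁻¹ * prod.fst)
        (prod.snd ≫ (yon (Spec (CommRingCat.of k))).map c₁)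
    have sq : IsPullback i₁ ((yon (Spec (CommRingCat.of k))).map f₂) μ₁ q₂ := by
      refine AlgSpace.isPullback_of_yon (prod.hom_ext ?_ ?_)
        (fun W p r h1 h2 => sP.hom_ext ?_ h2) fun W p r w => ?_
      · simp [i₁, μ₁, x₂]
      · simp [i₁, μ₁]
        rw [← hc₂, ← Functor.map_comp, ← Functor.map_comp, pullback.condition]
      · simpa [i₁] using congrArg (· ≫ prod.snd) h1
      · have w' : (p ≫ prod.snd) ≫ (yon (Spec (CommRingCat.of k))).map c₁ = r ≫ (yon (Spec (CommRingCat.of k))).map c₂ := by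
          rw [hc₂]
          simpa [μ₁] using congrArg (· ≫ prod.snd) w
        refine ⟨sP.lift (p ≫ prod.snd) r w', prod.hom_ext ?_ ?_, sP.lift_snd _ _ _⟩
        · simp only [i₁, Category.assoc, prod.lift_fst]
          rw [← Category.assoc, sP.lift_snd]
          simpa [μ₁, x₂] using (congrArg (· ≫ prod.fst) w).symm
        · simp only [i₁, Category.assoc, prod.lift_snd]
          exact sP.lift_fst _ _ _
    have hcl : Points.map μ₁ ⁻¹' {p₂} ⊆ closure {Points.ofPt i₁ pg} := by
      intro z hz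
      obtain ⟨w, rfl, -⟩ := AlgSpace.exists_of_isPullback sq z (Points.ofScheme _ (IsLocalRing.closedPoint F₂))
        (by rw [← Points.ofPt_eq_map_ofScheme, hq₂]; exact hz)
      rw [← specializes_iff_mem_closure, ← Points.ofScheme_toScheme P w, ← Points.ofPt_eq_map_ofScheme]
      exact (genericPoint_specializes _).map (Points.continuous_ofPt i₁)
    let ê₁ : (yon (Spec (CommRingCat.of k))).obj (Over.mk s₁) ⟶ G.left ⨯ (yon (Spec (CommRingCat.of k))).obj (Over.mk s₁) :=
      prod.lift ((yon (Spec (CommRingCat.of k))).map c₁ ≫ r₀) (𝟙 _)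
    have hgen : Points.ofPt i₁ pg ⤳ Points.ofPt ê₁ (IsLocalRing.closedPoint F₁) := by
      rw [specializes_iff_mem_closure]
      refine closure_minimal hcl isClosed_closure
        ((isOpenMap_map c₁).preimage_closure_subset_closure_preimage ?_)
      show Points.map μ₁ _ ∈ closure {p₂}
      rw [← specializes_iff_mem_closure, Points.map_ofPt, show ê₁ ≫ μ₁ =
        (yon (Spec (CommRingCat.of k))).map c₁ ≫ prod.lift r₀ (𝟙 _) by
          apply prod.hom_ext <;> simp [ê₁, μ₁], AlgSpace.ofPt_yon_map_comp,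
        Subsingleton.elim (α := PrimeSpectrum Ω) (c₁.left _) (IsLocalRing.closedPoint Ω)]
      exact h₂
    have hlam : i₁ ≫ lam = M := by
      refine prod.hom_ext ?_ ?_
      · simp only [lam, M, Category.assoc, prod.lift_fst, comp_mul, comp_inv, i₁, prod.lift_snd_assoc,
          Functor.map_comp]
      · simp [lam, M, i₁]
    have he : ê₁ ≫ lam = q₁ := by
      refine prod.hom_ext ?_ ?_
      · simp only [lam, ê₁, Category.assoc, prod.lift_fst, comp_mul, comp_inv, prod.lift_snd_assoc,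
          Category.id_comp, inv_mul_cancel_right]
        rfl
      · simp [lam, ê₁, hc₁]
    have h := hgen.map (Points.continuous_map lam)
    rwa [Points.map_ofPt, Points.map_ofPt, hlam, he, hq₁] at h
  · -- the right factor fixed
    let μ₂ := prod.map (𝟙 G.left) ((yon (Spec (CommRingCat.of k))).map c₂)
    let i₂ : (yon (Spec (CommRingCat.of k))).obj P ⟶ G.left ⨯ (yon (Spec (CommRingCat.of k))).obj (Over.mk s₂) := prod.lift ((yon (Spec (CommRingCat.of k))).map f₁ ≫ x₁) ((yon (Spec (CommRingCat.of k))).map f₂)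
    let lam : G.left ⨯ (yon (Spec (CommRingCat.of k))).obj (Over.mk s₂) ⟶ G.left ⨯ (yon (Spec (CommRingCat.of k))).obj (Over.mk str) :=
      prod.lift (prod.fst * (prod.snd ≫ (yon (Spec (CommRingCat.of k))).map c₂ ≫ r₀)⁻¹ * (prod.snd ≫ x₂))
        (prod.snd ≫ (yon (Spec (CommRingCat.of k))).map c₂)
    have sq : IsPullback i₂ ((yon (Spec (CommRingCat.of k))).map f₁) μ₂ q₁ := by
      refine AlgSpace.isPullback_of_yon (prod.hom_ext ?_ ?_)
        (fun W p r h1 h2 => sP.hom_ext h2 ?_) fun W p r w => ?_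
      · simp [i₂, μ₂, x₁]
      · simp [i₂, μ₂]
        rw [← hc₁, ← Functor.map_comp, ← Functor.map_comp, pullback.condition]
      · simpa [i₂] using congrArg (· ≫ prod.snd) h1
      · have w' : r ≫ (yon (Spec (CommRingCat.of k))).map c₁ = (p ≫ prod.snd) ≫ (yon (Spec (CommRingCat.of k))).map c₂ := by
          rw [hc₁]
          simpa [μ₂] using (congrArg (· ≫ prod.snd) w).symm
        refine ⟨sP.lift r (p ≫ prod.snd) w', prod.hom_ext ?_ ?_, sP.lift_fst _ _ _⟩
        · simp only [i₂, Category.assoc, prod.lift_fst]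
          rw [← Category.assoc, sP.lift_fst]
          simpa [μ₂, x₁] using (congrArg (· ≫ prod.fst) w).symm
        · simp only [i₂, Category.assoc, prod.lift_snd]
          exact sP.lift_snd _ _ _
    have hcl : Points.map μ₂ ⁻¹' {p₁} ⊆ closure {Points.ofPt i₂ pg} := by
      intro z hz
      obtain ⟨w, rfl, -⟩ := AlgSpace.exists_of_isPullback sq z (Points.ofScheme _ (IsLocalRing.closedPoint F₁))
        (by rw [← Points.ofPt_eq_map_ofScheme, hq₁]; exact hz)
      rw [← specializes_iff_mem_closure, ← Points.ofScheme_toScheme P w, ← Points.ofPt_eq_map_ofScheme]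
      exact (genericPoint_specializes _).map (Points.continuous_ofPt i₂)
    let ê₂ : (yon (Spec (CommRingCat.of k))).obj (Over.mk s₂) ⟶ G.left ⨯ (yon (Spec (CommRingCat.of k))).obj (Over.mk s₂) :=
      prod.lift ((yon (Spec (CommRingCat.of k))).map c₂ ≫ r₀) (𝟙 _)
    have hgen : Points.ofPt i₂ pg ⤳ Points.ofPt ê₂ (IsLocalRing.closedPoint F₂) := by
      rw [specializes_iff_mem_closure]
      refine closure_minimal hcl isClosed_closure
        ((isOpenMap_map c₂).preimage_closure_subset_closure_preimage ?_)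
      show Points.map μ₂ _ ∈ closure {p₁}
      rw [← specializes_iff_mem_closure, Points.map_ofPt, show ê₂ ≫ μ₂ =
        (yon (Spec (CommRingCat.of k))).map c₂ ≫ prod.lift r₀ (𝟙 _) by
          apply prod.hom_ext <;> simp [ê₂, μ₂], AlgSpace.ofPt_yon_map_comp,
        Subsingleton.elim (α := PrimeSpectrum Ω) (c₂.left _) (IsLocalRing.closedPoint Ω)]
      exact h₁
    have hlam : i₂ ≫ lam = M := by
      have hcc : (yon (Spec (CommRingCat.of k))).map f₂ ≫ (yon (Spec (CommRingCat.of k))).map c₂ = (yon (Spec (CommRingCat.of k))).map f₁ ≫ (yon (Spec (CommRingCat.of k))).map c₁ := sP.w.symm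
      refine prod.hom_ext ?_ ?_
      · simp only [lam, M, Category.assoc, prod.lift_fst, comp_mul, comp_inv, i₂, prod.lift_snd_assoc,
          Functor.map_comp]
        rw [reassoc_of% hcc]
      · simp [lam, M, i₂, hcc]
    have he : ê₂ ≫ lam = q₂ := by
      refine prod.hom_ext ?_ ?_
      · simp only [lam, ê₂, Category.assoc, prod.lift_fst, comp_mul, comp_inv, prod.lift_snd_assoc,
          Category.id_comp, mul_inv_cancel, one_mul]
        rfl
      · simp [lam, ê₂, hc₂]
    have h := hgen.map (Points.continuous_map lam)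
    rwa [Points.map_ofPt, Points.map_ofPt, hlam, he, hq₂] at h

/-- Maximal generizations in a group algebraic space over a field are unique. -/
theorem isMax_unique (hG : IsAlgSpace G.left) (hdec : IsDecent G.left) {x ξ₁ ξ₂ : Points G.left}
    (h₁ : ξ₁ ⤳ x) (h₂ : ξ₂ ⤳ x) (m₁ : IsMax ξ₁) (m₂ : IsMax ξ₂) : ξ₁ = ξ₂ := by
  obtain ⟨F, iF, s, q, rfl⟩ := exists_fieldPt x
  let Ω := AlgebraicClosure F
  let str : Spec (CommRingCat.of Ω) ⟶ (Spec (CommRingCat.of k)) := Spec.map (CommRingCat.ofHom (algebraMap F Ω)) ≫ s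
  let c : (Over.mk str : Over (Spec (CommRingCat.of k))) ⟶ Over.mk s :=
    Over.homMk (Spec.map (CommRingCat.ofHom (algebraMap F Ω))) rfl
  let r₀ := (yon (Spec (CommRingCat.of k))).map c ≫ q
  let z := Points.ofPt (prod.lift r₀ (𝟙 _)) (IsLocalRing.closedPoint Ω)
  have hz : Points.map (prod.fst : G.left ⨯ (yon (Spec (CommRingCat.of k))).obj (Over.mk str) ⟶ _) z =
      Points.ofPt q (IsLocalRing.closedPoint F) := by
    rw [Points.map_ofPt, prod.lift_fst, AlgSpace.ofPt_yon_map_comp,
      Subsingleton.elim (α := PrimeSpectrum F) (c.left _) (IsLocalRing.closedPoint F)]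
  obtain ⟨z₁, hz₁, rfl⟩ := exists_lift_gen hG hdec z (hz.symm ▸ h₁)
  obtain ⟨z₂, hz₂, rfl⟩ := exists_lift_gen hG hdec z (hz.symm ▸ h₂)
  obtain ⟨ζ, hζ₁, hζ₂⟩ := exists_common_gen r₀ hz₁ hz₂
  have hc := Points.continuous_map (prod.fst : G.left ⨯ (yon (Spec (CommRingCat.of k))).obj (Over.mk str) ⟶ _)
  exact (m₁ _ (hζ₁.map hc)).symm.trans (m₂ _ (hζ₂.map hc))

end Common

end Groth.Agent.H8.GroupScheme.Mul
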